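import Cfsg.Agent.Lib.AltEightNine.Ident2.Frame

/-!
# A frame in an extraspecial group of order 32 extended by the symmetric group of degree three
-/

set_option autoImplicit false
set_option maxRecDepth 100000
set_option linter.unusedSectionVars false

namespace Cfsg.Lib.AltEightNine.Ident

universe u

variable {G : Type u} [Group G]

/-- The core with an element of order three acting without fixed points and an element inverting it. -/
structure Core (G : Type u) [Group G] where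
  /-- the core -/
  Q : Subgroup G
  /-- the central involution -/
  s : G
  /-- the element of order three -/
  x : G
  /-- the inverting element -/
  y : G
  s_sq : s * s = 1
  s_ne : s ≠ 1
  s_mem : s ∈ Q
  card : Nat.card Q = 32
  sq : ∀ q ∈ Q, q * q = 1 ∨ q * q = s
  com : ∀ a ∈ Q, ∀ b ∈ Q, a * b = b * a ∨ a * b = s * (b * a)
  cen : ∀ q ∈ Q, (∀ r ∈ Q, r * q = q * r) → q = 1 ∨ q = s
  sQ : ∀ q ∈ Q, Commute s q
  sx : Commute s x
  sy : Commute s y
  x3 : x ^ 3 = 1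
  xQ : ∀ q ∈ Q, x * q * x⁻¹ ∈ Q
  yQ : ∀ q ∈ Q, y * q * y⁻¹ ∈ Q
  fix : ∀ q ∈ Q, x * q * x⁻¹ = q → q = 1 ∨ q = s
  yx : y * x * y⁻¹ = x⁻¹
  yy : y * y = 1 ∨ y * y = s

theorem Quat.conj {s i j g : G} (h : Quat s i j) (hg : Commute s g) : Quat s (g * i * g⁻¹) (g * j * g⁻¹) := by
  have hs : g * s * g⁻¹ = s := by rw [← hg.eq, mul_inv_cancel_right]
  have e : ∀ a b : G, g * a * g⁻¹ * (g * b * g⁻¹) = g * (a * b) * g⁻¹ := fun a b => by group
  refine ⟨by rw [e, h.ii, hs], by rw [e, h.jj, hs], ?_, ?_, ?_⟩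
  · rw [e, h.ji, e]
    nth_rw 2 [← hs]
    group
  · exact (hg.mul_right h.ci).mul_right hg.inv_right
  · exact (hg.mul_right h.cj).mul_right hg.inv_right

theorem Quat.pv_self {s i j : G} (h : Quat s i j) (hs : s * s = 1) (u : Fin 4) :
    pv i j u * pv i j u = s ^ (nzU u : ℕ) := by
  have e : ∀ u : Fin 4, qX u u = 0 ∧ qS u u = nzU u := by decide
  rw [h.pv_mul hs, (e u).1, (e u).2]
  simp [pv]

/-- The signs of commutation with the first member of a pair. -/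
def cI : Fin 4 → Fin 2 := ![0, 0, 1, 1]

/-- The signs of commutation with the second member of a pair. -/
def cJ : Fin 4 → Fin 2 := ![0, 1, 0, 1]

theorem Quat.pv_comm {s i j : G} (h : Quat s i j) (hs : s * s = 1) (u : Fin 4) :
    pv i j u * i = i * pv i j u * s ^ (cI u : ℕ) ∧ pv i j u * j = j * pv i j u * s ^ (cJ u : ℕ) := by
  have e : ∀ u, qX u 1 = qX 1 u ∧ qS u 1 = qS 1 u + cI u ∧ qX u 2 = qX 2 u ∧ qS u 2 = qS 2 u + cJ u := by
    decide +kernel
  have hadd : ∀ a b : Fin 2, s ^ ((a + b : Fin 2) : ℕ) = s ^ (a : ℕ) * s ^ (b : ℕ) := by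
    intro a b; fin_cases a <;> fin_cases b <;> simp [hs]
  obtain ⟨e1, e2, e3, e4⟩ := e u
  constructor
  · rw [show i = pv i j 1 from rfl]
    show pv i j u * pv i j 1 = pv i j 1 * pv i j u * s ^ (cI u : ℕ)
    rw [h.pv_mul hs, h.pv_mul hs, e1, e2, hadd, mul_assoc]
  · show pv i j u * pv i j 2 = pv i j 2 * pv i j u * s ^ (cJ u : ℕ)
    rw [h.pv_mul hs, h.pv_mul hs, e3, e4, hadd, mul_assoc]

namespace Core

variable [Finite G] (C : Core G)

/-- A pair generating a quaternion subgroup of the core, permuted by the element of order three. -/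
structure Pair (i j : G) : Prop where
  quat : Quat C.s i j
  hi : i ∈ C.Q
  hj : j ∈ C.Q
  xi : C.x * i * C.x⁻¹ = j
  xj : C.x * j * C.x⁻¹ = i * j

variable {C}

theorem Pair.pv_mem {i j : G} (h : C.Pair i j) (u : Fin 4) : pv i j u ∈ C.Q := by
  fin_cases u
  exacts [one_mem _, h.hi, h.hj, mul_mem h.hi h.hj]

theorem Pair.x_pv {i j : G} (h : C.Pair i j) (u : Fin 4) :
    C.x * pv i j u * C.x⁻¹ = pv i j (cycA 1 u) := by
  rw [← MulAut.conj_apply, ← MulEquiv.coe_toMonoidHom, map_pv]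
  simp only [MulEquiv.coe_toMonoidHom, MulAut.conj_apply, h.xi, h.xj, h.quat.shift C.s_sq]

theorem Pair.rot {i j : G} (h : C.Pair i j) : C.Pair j (i * j) := by
  refine ⟨?_, h.hj, mul_mem h.hi h.hj, h.xj, ?_⟩
  · have := h.quat.conj C.sx
    rwa [h.xi, h.xj] at this
  · rw [show C.x * (i * j) * C.x⁻¹ = C.x * i * C.x⁻¹ * (C.x * j * C.x⁻¹) by group, h.xi, h.xj]

variable (C)

theorem x_back {q : G} : C.x * (C.x * (C.x * q * C.x⁻¹) * C.x⁻¹) * C.x⁻¹ = q := by
  rw [show C.x * (C.x * (C.x * q * C.x⁻¹) * C.x⁻¹) * C.x⁻¹ = C.x ^ 3 * q * (C.x ^ 3)⁻¹ by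
    rw [pow_succ, pow_two]; group, C.x3]
  group

theorem s_cases {q : G} (h : q = 1 ∨ q = C.s) : ∃ e : Fin 2, q = C.s ^ (e : ℕ) := by
  rcases h with rfl | rfl
  · exact ⟨0, by simp⟩
  · exact ⟨1, by simp⟩

theorem pair_of_sq {a : G} (ha : a ∈ C.Q) (haa : a * a = C.s) :
    ∃ i j, (i = a ∨ i = C.s * a) ∧ C.Pair i j := by
  obtain ⟨b, hb⟩ : ∃ b, b = C.x * a * C.x⁻¹ := ⟨_, rfl⟩
  obtain ⟨c, hc⟩ : ∃ c, c = C.x * b * C.x⁻¹ := ⟨_, rfl⟩
  have hbm : b ∈ C.Q := hb ▸ C.xQ a ha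
  have hcm : c ∈ C.Q := hc ▸ C.xQ b hbm
  have hxc : C.x * c * C.x⁻¹ = a := by rw [hc, hb]; exact C.x_back
  have hsx : C.x * C.s * C.x⁻¹ = C.s := by rw [← C.sx.eq, mul_inv_cancel_right]
  have hbb : b * b = C.s := by
    rw [hb, show C.x * a * C.x⁻¹ * (C.x * a * C.x⁻¹) = C.x * (a * a) * C.x⁻¹ by group, haa, hsx]
  have hcc : c * c = C.s := by
    rw [hc, show C.x * b * C.x⁻¹ * (C.x * b * C.x⁻¹) = C.x * (b * b) * C.x⁻¹ by group, hbb, hsx]
  -- the norm is central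
  obtain ⟨n, hn⟩ : ∃ n, n = a * b * c := ⟨_, rfl⟩
  have hnm : n ∈ C.Q := hn ▸ mul_mem (mul_mem ha hbm) hcm
  have hxn : C.x * n * C.x⁻¹ = a⁻¹ * n * a := by
    rw [hn, show C.x * (a * b * c) * C.x⁻¹ = C.x * a * C.x⁻¹ * (C.x * b * C.x⁻¹) * (C.x * c * C.x⁻¹) by group,
      ← hb, ← hc, hxc]
    group
  have hn1 : n = 1 ∨ n = C.s := by
    refine C.fix n hnm ?_
    rcases C.com n hnm a ha with e | e
    · rw [hxn, mul_assoc, e, inv_mul_cancel_left]
    exfalso
    have h1 : C.x * n * C.x⁻¹ = C.s * n := by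
      rw [hxn, mul_assoc, e, ← mul_assoc, ← mul_assoc, ← (C.sQ a ha).inv_right.eq, mul_assoc C.s a⁻¹ a,
        inv_mul_cancel, mul_one]
    have h2 : ∀ q, q ∈ C.Q → C.x * (C.s * q) * C.x⁻¹ = C.s * (C.x * q * C.x⁻¹) := fun q _ => by
      rw [show C.x * (C.s * q) * C.x⁻¹ = C.x * C.s * C.x⁻¹ * (C.x * q * C.x⁻¹) by group, hsx]
    have h3 := C.x_back (q := n)
    rw [h1, h2 n hnm, h1, ← mul_assoc C.s C.s, C.s_sq, one_mul, h1] at h3
    exact C.s_ne (mul_eq_right.1 h3)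
  obtain ⟨ε, hε⟩ := C.s_cases hn1
  have hci : c⁻¹ = C.s * c := inv_eq_of_mul_eq_one_right (by
    rw [← mul_assoc, ← (C.sQ c hcm).eq, mul_assoc, hcc, C.s_sq])
  have hab : a * b = C.s ^ (ε : ℕ) * (C.s * c) := by rw [← hci, ← hε, hn, mul_inv_cancel_right]
  have habs : b * a = C.s * (a * b) := by
    rcases C.com b hbm a ha with e | e
    · exfalso
      have h1 : a * b * (a * b) = 1 := by
        rw [show a * b * (a * b) = a * (b * a) * b by group, e,
          show a * (a * b) * b = a * a * (b * b) by group, haa, hbb, C.s_sq]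
      have h2 : a * b * (a * b) = C.s := by
        rw [hab]
        have hcS : Commute C.s c := C.sQ c hcm
        rcases (show ∀ e : Fin 2, e = 0 ∨ e = 1 by decide) ε with e | e <;> rw [e]
        · simp only [Fin.isValue, Fin.val_zero, pow_zero, one_mul]
          rw [show C.s * c * (C.s * c) = C.s * (c * C.s) * c by group, ← hcS.eq, ← mul_assoc, C.s_sq, one_mul, hcc]
        · simp only [Fin.isValue, Fin.val_one, pow_one]
          rw [← mul_assoc C.s C.s, C.s_sq, one_mul, hcc]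
      exact C.s_ne (h2.symm.trans h1)
    · exact e
  have quat : ∀ i j : G, i * i = C.s → j * j = C.s → j * i = C.s * (i * j) → i ∈ C.Q → j ∈ C.Q →
      Quat C.s i j := fun i j h1 h2 h3 hi hj => ⟨h1, h2, h3, C.sQ i hi, C.sQ j hj⟩
  rcases (show ∀ e : Fin 2, e = 0 ∨ e = 1 by decide) ε with e | e <;> rw [e] at hab
  · refine ⟨C.s * a, C.s * b, Or.inr rfl, quat _ _ ?_ ?_ ?_ (mul_mem C.s_mem ha) (mul_mem C.s_mem hbm),
      mul_mem C.s_mem ha, mul_mem C.s_mem hbm, ?_, ?_⟩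
    · rw [show C.s * a * (C.s * a) = C.s * (a * C.s) * a by group, ← (C.sQ a ha).eq, ← mul_assoc, C.s_sq,
        one_mul, haa]
    · rw [show C.s * b * (C.s * b) = C.s * (b * C.s) * b by group, ← (C.sQ b hbm).eq, ← mul_assoc, C.s_sq,
        one_mul, hbb]
    · rw [show C.s * b * (C.s * a) = C.s * (b * C.s) * a by group, ← (C.sQ b hbm).eq, ← mul_assoc, C.s_sq,
        one_mul, habs, show C.s * a * (C.s * b) = C.s * (a * C.s) * b by group, ← (C.sQ a ha).eq, ← mul_assoc C.s C.s,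
        C.s_sq, one_mul]
    · rw [show C.x * (C.s * a) * C.x⁻¹ = C.x * C.s * C.x⁻¹ * (C.x * a * C.x⁻¹) by group, hsx, ← hb]
    · rw [show C.x * (C.s * b) * C.x⁻¹ = C.x * C.s * C.x⁻¹ * (C.x * b * C.x⁻¹) by group, hsx, ← hc,
        show C.s * a * (C.s * b) = C.s * (a * C.s) * b by group, ← (C.sQ a ha).eq, ← mul_assoc C.s C.s, C.s_sq,
        one_mul, hab]
      simp
  · refine ⟨a, b, Or.inl rfl, quat _ _ haa hbb habs ha hbm, ha, hbm, hb.symm, ?_⟩
    rw [hab]
    simp only [Fin.isValue, Fin.val_one, pow_one]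
    rw [← mul_assoc, C.s_sq, one_mul]
    exact hc.symm

theorem cancel_comm {i j r : G} (h1 : Commute j r) (h2 : Commute (i * j) r) : Commute i r := by
  have := h2.mul_left h1.inv_left
  rwa [mul_inv_cancel_right] at this

theorem exists_pairs : ∃ i j k l, C.Pair i j ∧ C.Pair k l ∧ Commute i k ∧ Commute i l ∧ Commute j k ∧ Commute j l := by
  have two : ∀ S : Subgroup G, Nat.card S = 32 → (∀ q ∈ S, q = 1 ∨ q = C.s) → False := by
    intro S hS h
    have hle : Nat.card S ≤ ({1, C.s} : Set G).ncard := by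
      rw [← Nat.card_coe_set_eq]
      exact Nat.card_mono (Set.toFinite _) fun q hq => by simpa using h q hq
    have := Set.ncard_insert_le (1 : G) {C.s}
    rw [Set.ncard_singleton] at this
    omega
  obtain ⟨a, ha, haa⟩ : ∃ a ∈ C.Q, a * a = C.s := by
    by_contra hno
    push Not at hno
    have h1 : ∀ q ∈ C.Q, q * q = 1 := fun q hq => (C.sq q hq).resolve_right (hno q hq)
    refine two C.Q C.card fun q hq => C.cen q hq fun r hr => ?_
    have hi : ∀ q ∈ C.Q, q⁻¹ = q := fun q hq => inv_eq_of_mul_eq_one_left (h1 q hq)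
    rw [← hi _ (mul_mem hr hq), mul_inv_rev, hi q hq, hi r hr]
  obtain ⟨i, j, -, hp⟩ := C.pair_of_sq ha haa
  have key : ∀ q ∈ C.Q, ∃ u, Commute (pv i j u * q) i ∧ Commute (pv i j u * q) j := by
    intro q hq
    have sgn : ∀ r ∈ C.Q, ∃ e : Fin 2, q * r = r * q * C.s ^ (e : ℕ) := by
      intro r hr
      rcases C.com q hq r hr with e | e
      · exact ⟨0, by simpa using e⟩
      · exact ⟨1, by rw [e, Fin.val_one, pow_one, (C.sQ _ (mul_mem hr hq)).eq]⟩
    obtain ⟨e1, h1⟩ := sgn i hp.hi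
    obtain ⟨e2, h2⟩ := sgn j hp.hj
    obtain ⟨u, hu1, hu2⟩ := (show ∀ a b : Fin 2, ∃ u : Fin 4, cI u = a ∧ cJ u = b by decide) e1 e2
    refine ⟨u, ?_, ?_⟩
    all_goals
      first
        | (show pv i j u * q * i = i * (pv i j u * q)
           rw [mul_assoc, h1, ← mul_assoc, ← mul_assoc, (hp.quat.pv_comm C.s_sq u).1, hu1, mul_assoc _ (C.s ^ (e1 : ℕ)),
             ((C.sQ q hq).pow_left (e1 : ℕ)).eq, ← mul_assoc, mul_assoc _ (C.s ^ (e1 : ℕ)), ← pow_add])
        | (show pv i j u * q * j = j * (pv i j u * q)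
           rw [mul_assoc, h2, ← mul_assoc, ← mul_assoc, (hp.quat.pv_comm C.s_sq u).2, hu2, mul_assoc _ (C.s ^ (e2 : ℕ)),
             ((C.sQ q hq).pow_left (e2 : ℕ)).eq, ← mul_assoc, mul_assoc _ (C.s ^ (e2 : ℕ)), ← pow_add])
    · rcases (show ∀ e : Fin 2, e = 0 ∨ e = 1 by decide) e1 with e | e <;> simp [e, C.s_sq, mul_assoc, pow_two]
    · rcases (show ∀ e : Fin 2, e = 0 ∨ e = 1 by decide) e2 with e | e <;> simp [e, C.s_sq, mul_assoc, pow_two]
  obtain ⟨c, hc, hci, hcj, hcc⟩ : ∃ c ∈ C.Q, Commute c i ∧ Commute c j ∧ c * c = C.s := by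
    by_contra hno
    push Not at hno
    have h1 : ∀ c ∈ C.Q, Commute c i → Commute c j → c * c = 1 := fun c hc h h' =>
      (C.sq c hc).resolve_right (hno c hc h h')
    have hz : ∀ c ∈ C.Q, Commute c i → Commute c j → c = 1 ∨ c = C.s := by
      intro c hc hci hcj
      refine C.cen c hc fun r hr => ?_
      obtain ⟨u, hu1, hu2⟩ := key r hr
      have hrm : pv i j u * r ∈ C.Q := mul_mem (hp.pv_mem u) hr
      have hcu : Commute c (pv i j u) := by
        fin_cases u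
        exacts [Commute.one_right _, hci, hcj, hci.mul_right hcj]
      have e1 := h1 _ hrm hu1 hu2
      have e2 := h1 c hc hci hcj
      have e3 := h1 _ (mul_mem hc hrm) (hci.mul_left hu1) (hcj.mul_left hu2)
      have hcomm : Commute c (pv i j u * r) := by
        show c * (pv i j u * r) = pv i j u * r * c
        rw [← inv_eq_of_mul_eq_one_left e3, mul_inv_rev, inv_eq_of_mul_eq_one_left e1,
          inv_eq_of_mul_eq_one_left e2]
      have h4 := hcu.inv_right.mul_right hcomm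
      rw [inv_mul_cancel_left] at h4
      exact h4.eq.symm
    have hle : Nat.card C.Q ≤ Nat.card (Fin 4 × Fin 2) :=
      Nat.card_le_card_of_surjective (fun p : Fin 4 × Fin 2 =>
        (⟨(pv i j p.1)⁻¹ * C.s ^ (p.2 : ℕ), mul_mem (inv_mem (hp.pv_mem _)) (pow_mem C.s_mem _)⟩ : C.Q)) fun q => by
        obtain ⟨u, hu1, hu2⟩ := key q.1 q.2
        obtain ⟨e, he⟩ := C.s_cases (hz _ (mul_mem (hp.pv_mem u) q.2) hu1 hu2)
        exact ⟨(u, e), Subtype.ext (show (pv i j u)⁻¹ * C.s ^ (e : ℕ) = q.1 by rw [← he, inv_mul_cancel_left])⟩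
    rw [C.card, Nat.card_prod, Nat.card_fin, Nat.card_fin] at hle
    omega
  obtain ⟨k, l, hk, hp'⟩ := C.pair_of_sq hc hcc
  have hki : Commute k i ∧ Commute k j := by
    rcases hk with rfl | rfl
    · exact ⟨hci, hcj⟩
    · exact ⟨(C.sQ i hp.hi).mul_left hci, (C.sQ j hp.hj).mul_left hcj⟩
  have hlj : Commute j l := by
    have := (SemiconjBy.conj_mk (C.x) i).eq
    rw [← hp.xi, ← hp'.xi]
    show _ = _
    rw [show C.x * i * C.x⁻¹ * (C.x * k * C.x⁻¹) = C.x * (i * k) * C.x⁻¹ by group, hki.1.symm.eq]; group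
  have hlij : Commute (i * j) l := by
    rw [← hp.xj, ← hp'.xi]
    show _ = _
    rw [show C.x * j * C.x⁻¹ * (C.x * k * C.x⁻¹) = C.x * (j * k) * C.x⁻¹ by group, hki.2.symm.eq]; group
  exact ⟨i, j, k, l, hp, hp', hki.1.symm, cancel_comm hlj hlij, hki.2.symm, hlj⟩

theorem tnorm {i j k l t : G} (hp : C.Pair i j) (hq : C.Pair k l) (htx : t * C.x * t⁻¹ = C.x⁻¹) {e : Fin 2}
    (ht : t * i * t⁻¹ = pv k l 2 * C.s ^ (e : ℕ)) :
    t * i * t⁻¹ = C.s * l ∧ t * j * t⁻¹ = C.s * k := by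
  have hsx : C.x⁻¹ * C.s * C.x = C.s := by rw [mul_assoc, C.sx.eq, inv_mul_cancel_left]
  have conjx : ∀ q, t * (C.x * q * C.x⁻¹) * t⁻¹ = C.x⁻¹ * (t * q * t⁻¹) * C.x := fun q => by
    rw [show t * (C.x * q * C.x⁻¹) * t⁻¹ = t * C.x * t⁻¹ * (t * q * t⁻¹) * (t * C.x * t⁻¹)⁻¹ by group, htx, inv_inv]
  have hes : C.x⁻¹ * C.s ^ (e : ℕ) * C.x = C.s ^ (e : ℕ) := by
    rw [mul_assoc, (C.sx.pow_left _).eq, inv_mul_cancel_left]
  have hlx : C.x⁻¹ * l * C.x = k := by rw [← hq.xi]; group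
  have hkx : C.x⁻¹ * k * C.x = k * l := by
    have h : C.x * (k * l) * C.x⁻¹ = k := by
      rw [show C.x * (k * l) * C.x⁻¹ = C.x * k * C.x⁻¹ * (C.x * l * C.x⁻¹) by group, hq.xi, hq.xj, ← mul_assoc,
        hq.quat.ji, mul_assoc, mul_assoc, hq.quat.jj, ← (C.sQ k hq.hi).eq, ← mul_assoc, C.s_sq, one_mul]
    nth_rw 1 [← h]; group
  have ht' : t * i * t⁻¹ = l * C.s ^ (e : ℕ) := ht
  have hj : t * j * t⁻¹ = k * C.s ^ (e : ℕ) := by
    rw [← hp.xi, conjx, ht', show C.x⁻¹ * (l * C.s ^ (e : ℕ)) * C.x =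
      C.x⁻¹ * l * C.x * (C.x⁻¹ * C.s ^ (e : ℕ) * C.x) by group, hlx, hes]
  have hij : t * (i * j) * t⁻¹ = k * l * C.s ^ (e : ℕ) := by
    rw [← hp.xj, conjx, hj, show C.x⁻¹ * (k * C.s ^ (e : ℕ)) * C.x =
      C.x⁻¹ * k * C.x * (C.x⁻¹ * C.s ^ (e : ℕ) * C.x) by group, hkx, hes]
  rw [show t * (i * j) * t⁻¹ = t * i * t⁻¹ * (t * j * t⁻¹) by group, ht', hj] at hij
  rcases (show ∀ e : Fin 2, e = 0 ∨ e = 1 by decide) e with rfl | rfl
  · simp only [Fin.isValue, Fin.val_zero, pow_zero, mul_one] at hij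
    rw [hq.quat.ji, mul_eq_right] at hij
    exact absurd hij C.s_ne
  · simp only [Fin.isValue, Fin.val_one, pow_one] at ht' hj
    exact ⟨ht'.trans (C.sQ l hq.hj).eq.symm, hj.trans (C.sQ k hq.hi).eq.symm⟩

/-- An inverting element. -/
structure Inv (t : G) : Prop where
  tx : t * C.x * t⁻¹ = C.x⁻¹
  st : Commute C.s t
  sq : t * t = 1 ∨ t * t = C.s
  tQ : ∀ q ∈ C.Q, t * q * t⁻¹ ∈ C.Q

variable {C}

theorem Inv.x_mul {t : G} (h : C.Inv t) : C.Inv (C.x * t) := by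
  refine ⟨?_, C.sx.mul_right h.st, ?_, fun q hq => ?_⟩
  · rw [show C.x * t * C.x * (C.x * t)⁻¹ = C.x * (t * C.x * t⁻¹) * C.x⁻¹ by group, h.tx]; group
  · rw [show C.x * t * (C.x * t) = C.x * (t * C.x * t⁻¹) * (t * t) by group, h.tx, mul_inv_cancel, one_mul]
    exact h.sq
  · rw [show C.x * t * q * (C.x * t)⁻¹ = C.x * (t * q * t⁻¹) * C.x⁻¹ by group]
    exact C.xQ _ (h.tQ q hq)

theorem Pair.x_pv_s {k l : G} (h : C.Pair k l) (v : Fin 4) (e : Fin 2) :
    C.x * (pv k l v * C.s ^ (e : ℕ)) * C.x⁻¹ = pv k l (cycA 1 v) * C.s ^ (e : ℕ) := by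
  rw [show C.x * (pv k l v * C.s ^ (e : ℕ)) * C.x⁻¹ =
    C.x * pv k l v * C.x⁻¹ * (C.x * C.s ^ (e : ℕ) * C.x⁻¹) by group, h.x_pv, ← (C.sx.pow_left _).eq,
    mul_inv_cancel_right]

variable (C)

theorem exists_frame : ∃ sw d : Bool, ∃ F : Frame G sw d, F.s = C.s ∧
    (∀ g, (∃ n, F.f n = g) → Commute g C.s) ∧ ∀ q ∈ C.Q, ∃ n, inQ n = true ∧ F.f n = q := by
  obtain ⟨i, j, k, l, hp, hq, hik, hil, hjk, hjl⟩ := C.exists_pairs
  have ss := C.s_sq
  -- every element of the core has coordinates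
  have cover : ∀ (k l : G), C.Pair k l → Commute i k → Commute i l → Commute j k → Commute j l →
      ∀ q ∈ C.Q, ∃ (u v : Fin 4) (e : Fin 2), q = pv i j u * pv k l v * C.s ^ (e : ℕ) := by
    intro k l hq hik hil hjk hjl
    have cross : ∀ u v, Commute (pv i j u) (pv k l v) := by
      intro u v
      have h1 : Commute i (pv k l v) ∧ Commute j (pv k l v) := by
        fin_cases v
        exacts [⟨Commute.one_right _, Commute.one_right _⟩, ⟨hik, hjk⟩, ⟨hil, hjl⟩,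
          ⟨hik.mul_right hil, hjk.mul_right hjl⟩]
      fin_cases u
      exacts [Commute.one_left _, h1.1, h1.2, h1.1.mul_left h1.2]
    let h : Fin 4 × Fin 4 × Fin 2 → C.Q := fun p => ⟨pv i j p.1 * pv k l p.2.1 * C.s ^ (p.2.2 : ℕ),
      mul_mem (mul_mem (hp.pv_mem _) (hq.pv_mem _)) (pow_mem C.s_mem _)⟩
    have sinj : ∀ a b : Fin 2, C.s ^ (a : ℕ) = C.s ^ (b : ℕ) → a = b := by
      intro a b e
      rcases (show ∀ e : Fin 2, e = 0 ∨ e = 1 by decide) a with rfl | rfl <;>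
        rcases (show ∀ e : Fin 2, e = 0 ∨ e = 1 by decide) b with rfl | rfl <;>
        simp at e ⊢
      · exact absurd e.symm C.s_ne
      · exact absurd e C.s_ne
    have hcm : ∀ {i' a b : G} {n : ℕ}, Commute i' b → a * i' = i' * a * C.s ^ n → i' ∈ C.Q → a ∈ C.Q → b ∈ C.Q →
        ∀ (m : ℕ), a * b * C.s ^ m * i' = i' * (a * b * C.s ^ m) * C.s ^ n := by
      intro i' a b n hb ha hi ham hbm m
      calc a * b * C.s ^ m * i' = a * b * (C.s ^ m * i') := by group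
        _ = a * (b * i') * C.s ^ m := by rw [((C.sQ i' hi).pow_left m).eq]; group
        _ = a * i' * (b * C.s ^ m) := by rw [← hb.eq]; group
        _ = i' * a * (C.s ^ n * (b * C.s ^ m)) := by rw [ha]; group
        _ = _ := by rw [((C.sQ _ (mul_mem hbm (pow_mem C.s_mem m))).pow_left n).eq]; group
    have hinj : Function.Injective h := by
      rintro ⟨u, v, e⟩ ⟨u', v', e'⟩ heq
      have E : pv i j u * pv k l v * C.s ^ (e : ℕ) = pv i j u' * pv k l v' * C.s ^ (e' : ℕ) :=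
        congrArg Subtype.val heq
      have E' : pv k l v * pv i j u * C.s ^ (e : ℕ) = pv k l v' * pv i j u' * C.s ^ (e' : ℕ) := by
        rwa [← (cross u v).eq, ← (cross u' v').eq]
      have sI : cI u = cI u' ∧ cJ u = cJ u' := by
        have a1 := hcm (cross 1 v) (hp.quat.pv_comm ss u).1 hp.hi (hp.pv_mem u) (hq.pv_mem v) e
        have a2 := hcm (cross 1 v') (hp.quat.pv_comm ss u').1 hp.hi (hp.pv_mem u') (hq.pv_mem v') e'
        have b1 := hcm (cross 2 v) (hp.quat.pv_comm ss u).2 hp.hj (hp.pv_mem u) (hq.pv_mem v) e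
        have b2 := hcm (cross 2 v') (hp.quat.pv_comm ss u').2 hp.hj (hp.pv_mem u') (hq.pv_mem v') e'
        rw [E, a2] at a1
        rw [E, b2] at b1
        exact ⟨(sinj _ _ (mul_left_cancel a1)).symm, (sinj _ _ (mul_left_cancel b1)).symm⟩
      have sK : cI v = cI v' ∧ cJ v = cJ v' := by
        have a1 := hcm (cross u 1).symm (hq.quat.pv_comm ss v).1 hq.hi (hq.pv_mem v) (hp.pv_mem u) e
        have a2 := hcm (cross u' 1).symm (hq.quat.pv_comm ss v').1 hq.hi (hq.pv_mem v') (hp.pv_mem u') e'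
        have b1 := hcm (cross u 2).symm (hq.quat.pv_comm ss v).2 hq.hj (hq.pv_mem v) (hp.pv_mem u) e
        have b2 := hcm (cross u' 2).symm (hq.quat.pv_comm ss v').2 hq.hj (hq.pv_mem v') (hp.pv_mem u') e'
        rw [E', a2] at a1
        rw [E', b2] at b1
        exact ⟨(sinj _ _ (mul_left_cancel a1)).symm, (sinj _ _ (mul_left_cancel b1)).symm⟩
      have dec : ∀ u u' : Fin 4, cI u = cI u' → cJ u = cJ u' → u = u' := by decide
      obtain rfl := dec u u' sI.1 sI.2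
      obtain rfl := dec v v' sK.1 sK.2
      obtain rfl := sinj _ _ (mul_left_cancel E)
      rfl
    intro q hq'
    have hb := (Nat.bijective_iff_injective_and_card h).2 ⟨hinj, by
      rw [C.card, Nat.card_prod, Nat.card_prod, Nat.card_fin, Nat.card_fin]⟩
    obtain ⟨⟨u, v, e⟩, he⟩ := hb.2 ⟨q, hq'⟩
    exact ⟨u, v, e, (congrArg Subtype.val he).symm⟩
  have yinv : C.Inv C.y := ⟨C.yx, C.sy, C.yy, C.yQ⟩
  have pack : ∀ (sw : Bool) (k l t : G), C.Pair k l → Commute i k → Commute i l → Commute j k → Commute j l →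
      C.Inv t → t * i * t⁻¹ = C.s * (if sw then l else j) → t * j * t⁻¹ = C.s * (if sw then k else i) →
      t * k * t⁻¹ = C.s * (if sw then j else l) → t * l * t⁻¹ = C.s * (if sw then i else k) →
      ∃ sw d : Bool, ∃ F : Frame G sw d, F.s = C.s ∧
        (∀ g, (∃ n, F.f n = g) → Commute g C.s) ∧ ∀ q ∈ C.Q, ∃ n, inQ n = true ∧ F.f n = q := by
    intro sw k l t hq hik hil hjk hjl ht ti tj tk tl
    obtain ⟨d, hd⟩ : ∃ d : Bool, t * t = if d then C.s else 1 := by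
      rcases ht.sq with e | e
      · exact ⟨false, by simpa using e⟩
      · exact ⟨true, by simpa using e⟩
    let F : Frame G sw d := ⟨C.s, i, j, k, l, C.x, t, C.s_ne, ss, C.sx, ht.st, hp.quat, hq.quat, hik, hil, hjk, hjl,
      C.x3, hp.xi, hp.xj, hq.xi, hq.xj, hd, ht.tx, ti, tj, tk, tl⟩
    refine ⟨sw, d, F, rfl, ?_, ?_⟩
    · rintro _ ⟨n, rfl⟩
      exact (((F.s_qv _).mul_right (F.sx.pow_right _)).mul_right (F.st.pow_right _)).symm
    · intro q hq'
      obtain ⟨u, v, e, rfl⟩ := cover k l hq hik hil hjk hjl q hq'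
      refine ⟨Ident.mk (u, v, e) 0 0, ?_, ?_⟩
      · exact (show ∀ p : Q5, inQ (Ident.mk p 0 0) = true by decide +kernel) (u, v, e)
      · simp [Frame.f, Frame.qv, (parts_mk _ _ _).1, (parts_mk _ _ _).2.1, (parts_mk _ _ _).2.2, F]
  -- elements squaring to the centre lie in one of the two quaternion subgroups
  have square : ∀ (k l : G), C.Pair k l → Commute i k → Commute i l → Commute j k → Commute j l →
      ∀ r ∈ C.Q, r * r = C.s → ∃ (u : Fin 4) (e : Fin 2), u ≠ 0 ∧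
        (r = pv i j u * C.s ^ (e : ℕ) ∨ r = pv k l u * C.s ^ (e : ℕ)) := by
    intro k l hq hik hil hjk hjl r hr hrr
    obtain ⟨u, v, e, rfl⟩ := cover k l hq hik hil hjk hjl r hr
    by_cases hu : u = 0
    · subst hu
      refine ⟨v, e, ?_, Or.inr (by simp [pv])⟩
      rintro rfl
      rcases (show ∀ e : Fin 2, e = 0 ∨ e = 1 by decide) e with rfl | rfl <;>
        simp [pv, ss] at hrr <;> exact C.s_ne hrr.symm
    by_cases hv : v = 0
    · subst hv
      exact ⟨u, e, hu, Or.inl (by simp [pv])⟩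
    exfalso
    have hn : ∀ u : Fin 4, u ≠ 0 → (nzU u : ℕ) = 1 := by decide
    have cj : Commute (pv i j u) (pv k l v) := by
      have h1 : Commute i (pv k l v) ∧ Commute j (pv k l v) := by
        fin_cases v
        exacts [⟨Commute.one_right _, Commute.one_right _⟩, ⟨hik, hjk⟩, ⟨hil, hjl⟩,
          ⟨hik.mul_right hil, hjk.mul_right hjl⟩]
      fin_cases u
      exacts [Commute.one_left _, h1.1, h1.2, h1.1.mul_left h1.2]
    have hse : C.s ^ (e : ℕ) * C.s ^ (e : ℕ) = 1 := by rw [← pow_add, ← two_mul, pow_mul, pow_two, ss, one_pow]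
    rw [show pv i j u * pv k l v * C.s ^ (e : ℕ) * (pv i j u * pv k l v * C.s ^ (e : ℕ)) =
      pv i j u * pv k l v * (C.s ^ (e : ℕ) * (pv i j u * pv k l v)) * C.s ^ (e : ℕ) by group,
      ((C.sQ _ (mul_mem (hp.pv_mem u) (hq.pv_mem v))).pow_left _).eq,
      show pv i j u * pv k l v * (pv i j u * pv k l v * C.s ^ (e : ℕ)) * C.s ^ (e : ℕ) =
        pv i j u * (pv k l v * pv i j u) * pv k l v * (C.s ^ (e : ℕ) * C.s ^ (e : ℕ)) by group,
      ← cj.eq, hse, mul_one, ← mul_assoc (pv i j u), hp.quat.pv_self ss, mul_assoc (C.s ^ _),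
      hq.quat.pv_self ss, hn u hu, hn v hv, pow_one, ss] at hrr
    exact C.s_ne hrr.symm
  -- rotate the inverting element
  have rotT : ∀ (k l : G), C.Pair k l → ∀ (u : Fin 4) (e : Fin 2), u ≠ 0 →
      C.y * i * C.y⁻¹ = pv k l u * C.s ^ (e : ℕ) →
      ∃ t, C.Inv t ∧ t * i * t⁻¹ = C.s * l ∧ t * j * t⁻¹ = C.s * k := by
    intro k l hq u e hu hy
    have step : ∀ t v, C.Inv t → t * i * t⁻¹ = pv k l v * C.s ^ (e : ℕ) →
        C.Inv (C.x * t) ∧ C.x * t * i * (C.x * t)⁻¹ = pv k l (cycA 1 v) * C.s ^ (e : ℕ) := fun t v ht h =>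
      ⟨ht.x_mul, by rw [show C.x * t * i * (C.x * t)⁻¹ = C.x * (t * i * t⁻¹) * C.x⁻¹ by group, h, hq.x_pv_s]⟩
    obtain ⟨a1, a2⟩ := step _ _ yinv hy
    obtain ⟨b1, b2⟩ := step _ _ a1 a2
    have hcases : ∀ u : Fin 4, u ≠ 0 → u = 2 ∨ cycA 1 u = 2 ∨ cycA 1 (cycA 1 u) = 2 := by decide
    obtain ⟨t, ht, h2⟩ : ∃ t, C.Inv t ∧ t * i * t⁻¹ = pv k l 2 * C.s ^ (e : ℕ) := by
      rcases hcases u hu with h | h | h
      · exact ⟨_, yinv, h ▸ hy⟩
      · exact ⟨_, a1, h ▸ a2⟩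
      · exact ⟨_, b1, h ▸ b2⟩
    exact ⟨t, ht, C.tnorm hp hq ht.tx h2⟩
  have hyi : C.y * i * C.y⁻¹ ∈ C.Q := C.yQ i hp.hi
  have hsy : C.y * C.s * C.y⁻¹ = C.s := by rw [← C.sy.eq, mul_inv_cancel_right]
  obtain ⟨u, e, hu, hy | hy⟩ := square k l hq hik hil hjk hjl _ hyi (by
    rw [show C.y * i * C.y⁻¹ * (C.y * i * C.y⁻¹) = C.y * (i * i) * C.y⁻¹ by group, hp.quat.ii, hsy])
  · -- both factors are fixed
    obtain ⟨t, ht, ti, tj⟩ := rotT i j hp u e hu hy
    have hts : t * C.s * t⁻¹ = C.s := by rw [← ht.st.eq, mul_inv_cancel_right]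
    obtain ⟨v, e', hv, hk | hk⟩ := square k l hq hik hil hjk hjl (t * k * t⁻¹) (ht.tQ k hq.hi) (by
      rw [show t * k * t⁻¹ * (t * k * t⁻¹) = t * (k * k) * t⁻¹ by group, hq.quat.ii, hts])
    · exfalso
      have hc : ∀ a, Commute a k → Commute (t * a * t⁻¹) (t * k * t⁻¹) := fun a h => by
        show _ = _
        rw [show t * a * t⁻¹ * (t * k * t⁻¹) = t * (a * k) * t⁻¹ by group, h.eq]; group
      have h1 := hc i hik
      have h2 := hc j hjk
      rw [ti, hk] at h1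
      rw [tj, hk] at h2
      have strip : ∀ a, a ∈ C.Q → Commute (C.s * a) (pv i j v * C.s ^ (e' : ℕ)) → Commute a (pv i j v) := by
        intro a ha h
        have h3 : Commute a (pv i j v * C.s ^ (e' : ℕ)) := by
          have := ((C.sQ _ (mul_mem (hp.pv_mem v) (pow_mem C.s_mem _))).inv_left).mul_left h
          rwa [inv_mul_cancel_left] at this
        have h4 := h3.mul_right ((C.sQ a ha).symm.pow_right (e' : ℕ)).inv_right
        rwa [mul_inv_cancel_right] at h4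
      have c1 := strip j hp.hj h1
      have c2 := strip i hp.hi h2
      have e1 := (hp.quat.pv_comm ss v).1
      have e2 := (hp.quat.pv_comm ss v).2
      rw [← c2.eq, left_eq_mul] at e1
      rw [← c1.eq, left_eq_mul] at e2
      have : ∀ v : Fin 4, v ≠ 0 → cI v = 1 ∨ cJ v = 1 := by decide
      rcases this v hv with h | h
      · rw [h, Fin.val_one, pow_one] at e1; exact C.s_ne e1
      · rw [h, Fin.val_one, pow_one] at e2; exact C.s_ne e2
    obtain ⟨k', l', hq', h1, h2, h3, h4, e'', ht2⟩ : ∃ k' l', C.Pair k' l' ∧ Commute i k' ∧ Commute i l' ∧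
        Commute j k' ∧ Commute j l' ∧ ∃ e'' : Fin 2, t * k' * t⁻¹ = pv k' l' 2 * C.s ^ (e'' : ℕ) := by
      have step : ∀ (k l : G) (v : Fin 4), C.Pair k l → Commute i k → Commute i l → Commute j k → Commute j l →
          t * k * t⁻¹ = pv k l v * C.s ^ (e' : ℕ) →
          C.Pair l (k * l) ∧ Commute i l ∧ Commute i (k * l) ∧ Commute j l ∧ Commute j (k * l) ∧
            t * l * t⁻¹ = pv l (k * l) (cycA 1 v) * C.s ^ (e' : ℕ) := by
        intro k l v hq a b c d h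
        refine ⟨hq.rot, b, a.mul_right b, d, c.mul_right d, ?_⟩
        have hcyc : ∀ v : Fin 4, cycA 1 (cycA 1 v) = cycA 2 v ∧ cycA 1 (cycA 2 v) = v := by decide
        rw [← hq.xi, show t * (C.x * k * C.x⁻¹) * t⁻¹ = t * C.x * t⁻¹ * (t * k * t⁻¹) * (t * C.x * t⁻¹)⁻¹ by group,
          ht.tx, inv_inv, h, hq.xi, hq.quat.shift ss, (hcyc v).1]
        have h5 := hq.x_pv_s (cycA 2 v) e'
        rw [(hcyc v).2] at h5
        rw [← h5]; group
      obtain ⟨p1, a1, b1, c1, d1, t1⟩ := step k l v hq hik hil hjk hjl hk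
      obtain ⟨p2, a2, b2, c2, d2, t2⟩ := step _ _ _ p1 a1 b1 c1 d1 t1
      have hcases : ∀ u : Fin 4, u ≠ 0 → u = 2 ∨ cycA 1 u = 2 ∨ cycA 1 (cycA 1 u) = 2 := by decide
      rcases hcases v hv with h | h | h
      · exact ⟨k, l, hq, hik, hil, hjk, hjl, e', h ▸ hk⟩
      · exact ⟨_, _, p1, a1, b1, c1, d1, e', h ▸ t1⟩
      · exact ⟨_, _, p2, a2, b2, c2, d2, e', h ▸ t2⟩
    obtain ⟨tk, tl⟩ := C.tnorm hq' hq' ht.tx ht2
    exact pack false k' l' t hq' h1 h2 h3 h4 ht (by simpa using ti) (by simpa using tj) (by simpa using tk)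
      (by simpa using tl)
  · -- the factors are exchanged
    obtain ⟨t, ht, ti, tj⟩ := rotT k l hq u e hu hy
    have htt : ∀ a ∈ C.Q, t * t * a * (t * t)⁻¹ = a := by
      intro a ha
      rcases ht.sq with e | e <;> rw [e]
      · group
      · rw [(C.sQ a ha).eq, mul_inv_cancel_right]
    have hts : t * C.s * t⁻¹ = C.s := by rw [← ht.st.eq, mul_inv_cancel_right]
    have flip : ∀ a b, a ∈ C.Q → t * a * t⁻¹ = C.s * b → t * b * t⁻¹ = C.s * a := by
      intro a b ha h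
      have : b = C.s * (t * a * t⁻¹) := by rw [h, ← mul_assoc, ss, one_mul]
      rw [this, show t * (C.s * (t * a * t⁻¹)) * t⁻¹ = t * C.s * t⁻¹ * (t * t * a * (t * t)⁻¹) by group, hts,
        htt a ha]
    exact pack true k l t hq hik hil hjk hjl ht (by simpa using ti) (by simpa using tj)
      (by simpa using flip j k hp.hj tj) (by simpa using flip i l hp.hi ti)

end Core

end Cfsg.Lib.AltEightNine.Ident
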