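import Cfsg.Agent.Lib.AltEightNine.Ident2.Table

/-!
# Elements satisfying the relations of one of the four groups of order 192
-/

set_option autoImplicit false
set_option maxRecDepth 100000

namespace Cfsg.Lib.AltEightNine.Ident

/-- The inverse of a normal form. -/
def nInv (sw d : Bool) (i : Fin 192) : Fin 192 :=
  let q := mk (nQ i) 0 0
  nfMul sw d (nfMul sw d (if nB i = 0 then 0 else if d then 7 else 1) (mk (0, 0, 0) (-nA i) 0))
    (nfMul sw d q (nfMul sw d q q))

theorem nInv_spec : ∀ sw d : Bool, ∀ i : Fin 192, nfMul sw d i (nInv sw d i) = 0 := by decide +kernel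

theorem qMul_cancel : ∀ p q r : Q5, qMul p r = qMul q r → p = q := by decide +kernel

theorem nf_cancel (sw d : Bool) (m n j : Fin 192) (h : nfMul sw d m j = nfMul sw d n j) : m = n := by
  have hq := congrArg nQ h
  have ha := congrArg nA h
  have hb := congrArg nB h
  simp only [nfMul, (parts_mk _ _ _).1, (parts_mk _ _ _).2.1, (parts_mk _ _ _).2.2] at hq ha hb
  have eb : nB m = nB n := add_right_cancel hb
  rw [eb] at ha hq
  have ea : nA m = nA n := add_right_cancel ha
  rw [ea] at hq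
  have eq' : nQ m = nQ n := by
    simp only [Prod.mk.injEq] at hq
    exact qMul_cancel _ _ _ (Prod.ext hq.1 (Prod.ext hq.2.1 (add_right_cancel hq.2.2)))
  rw [← mk_eq m, ← mk_eq n, eq', ea, eb]

universe u

variable {G : Type u} [Group G]

/-- A pair generating a quaternion group over a given central involution. -/
structure Quat (s i j : G) : Prop where
  ii : i * i = s
  jj : j * j = s
  ji : j * i = s * (i * j)
  ci : Commute s i
  cj : Commute s j

/-- The unit with a given code. -/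
def pv (i j : G) : Fin 4 → G := ![1, i, j, i * j]

/-- Elements satisfying the relations of one of the four groups. -/
structure Frame (G : Type u) [Group G] (sw d : Bool) where
  /-- the central involution -/
  s : G
  /-- the first quaternion pair -/
  i : G
  /-- the first quaternion pair -/
  j : G
  /-- the second quaternion pair -/
  k : G
  /-- the second quaternion pair -/
  l : G
  /-- the element of order three -/
  x : G
  /-- the inverting element -/
  t : G
  s_ne : s ≠ 1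
  s_sq : s * s = 1
  sx : Commute s x
  st : Commute s t
  qa : Quat s i j
  qb : Quat s k l
  ik : Commute i k
  il : Commute i l
  jk : Commute j k
  jl : Commute j l
  x3 : x ^ 3 = 1
  xi : x * i * x⁻¹ = j
  xj : x * j * x⁻¹ = i * j
  xk : x * k * x⁻¹ = l
  xl : x * l * x⁻¹ = k * l
  tt : t * t = if d then s else 1
  tx : t * x * t⁻¹ = x⁻¹
  ti : t * i * t⁻¹ = s * if sw then l else j
  tj : t * j * t⁻¹ = s * if sw then k else i
  tk : t * k * t⁻¹ = s * if sw then j else l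
  tl : t * l * t⁻¹ = s * if sw then i else k

theorem Quat.pv_mul {s i j : G} (h : Quat s i j) (hs : s * s = 1) (u v : Fin 4) :
    pv i j u * pv i j v = pv i j (qX u v) * s ^ (qS u v : ℕ) := by
  have e1 : ∀ y, s * (s * y) = y := fun y => by rw [← mul_assoc, hs, one_mul]
  have e2 : s * i = i * s := h.ci.eq
  have e3 : ∀ y, s * (i * y) = i * (s * y) := fun y => by rw [← mul_assoc, e2, mul_assoc]
  have e4 : s * j = j * s := h.cj.eq
  have e5 : ∀ y, s * (j * y) = j * (s * y) := fun y => by rw [← mul_assoc, e4, mul_assoc]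
  have e6 : ∀ y, i * (i * y) = s * y := fun y => by rw [← mul_assoc, h.ii]
  have e7 : ∀ y, j * (j * y) = s * y := fun y => by rw [← mul_assoc, h.jj]
  have e8 : j * i = i * (j * s) := by rw [h.ji, e3, e4]
  have e9 : ∀ y, j * (i * y) = i * (j * (s * y)) := fun y => by rw [← mul_assoc, e8, mul_assoc, mul_assoc]
  fin_cases u <;> fin_cases v <;>
    simp [pv, qX, qS, mul_assoc, h.ii, h.jj, hs, e4, e5, e6, e7, e8, e9]

theorem map_pv {H : Type*} [Group H] (φ : G →* H) (i j : G) (u : Fin 4) : φ (pv i j u) = pv (φ i) (φ j) u := by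
  fin_cases u <;> simp [pv]

theorem Quat.shift {s i j : G} (h : Quat s i j) (hs : s * s = 1) (u : Fin 4) :
    pv j (i * j) u = pv i j (cycA 1 u) := by
  have e : j * (i * j) = i := by
    rw [← mul_assoc, h.ji, mul_assoc, mul_assoc, h.jj, ← h.ci.eq, ← mul_assoc, hs, one_mul]
  fin_cases u <;> simp [pv, cycA, e]

theorem Quat.swap {s i j : G} (h : Quat s i j) (hs : s * s = 1) (u : Fin 4) :
    pv (s * j) (s * i) u = pv i j (th u) * s ^ (nzU u : ℕ) := by
  have e : s * j * (s * i) = i * j * s := by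
    rw [show s * j * (s * i) = s * (j * s) * i by group, ← h.cj.eq, ← mul_assoc, hs, one_mul, h.ji,
      (h.ci.mul_right h.cj).eq]
  fin_cases u <;> simp [pv, th, nzU, e] <;> simp [h.ci.eq, h.cj.eq]

namespace Frame

variable {sw d : Bool} (F : Frame G sw d)

/-- The element with given core coordinates. -/
def qv (q : Q5) : G := pv F.i F.j q.1 * pv F.k F.l q.2.1 * F.s ^ (q.2.2 : ℕ)

/-- The element with a given normal form. -/
def f (n : Fin 192) : G := F.qv (nQ n) * F.x ^ (nA n : ℕ) * F.t ^ (nB n : ℕ)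

theorem s_pow_add (a b : Fin 2) : F.s ^ ((a + b : Fin 2) : ℕ) = F.s ^ (a : ℕ) * F.s ^ (b : ℕ) := by
  fin_cases a <;> fin_cases b <;> simp [F.s_sq]

theorem x_pow_add (a b : Fin 3) : F.x ^ ((a + b : Fin 3) : ℕ) = F.x ^ (a : ℕ) * F.x ^ (b : ℕ) := by
  rw [← pow_add, Fin.val_add, ← pow_eq_pow_mod _ F.x3]

theorem x_pow_neg (a : Fin 3) : F.x ^ ((-a : Fin 3) : ℕ) = (F.x ^ (a : ℕ))⁻¹ :=
  eq_inv_of_mul_eq_one_left (by rw [← F.x_pow_add, neg_add_cancel]; simp)

theorem s_pv : ∀ u, Commute F.s (pv F.i F.j u) ∧ Commute F.s (pv F.k F.l u) := by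
  intro u
  fin_cases u <;> simp [pv, F.qa.ci, F.qa.cj, F.qb.ci, F.qb.cj, F.qa.ci.mul_right F.qa.cj, F.qb.ci.mul_right F.qb.cj]

theorem s_qv (q : Q5) : Commute F.s (F.qv q) :=
  ((F.s_pv _).1.mul_right (F.s_pv _).2).mul_right ((Commute.refl _).pow_right _)

theorem pv_comm (u v : Fin 4) : Commute (pv F.i F.j u) (pv F.k F.l v) := by
  have hi : ∀ v, Commute F.i (pv F.k F.l v) := by
    intro v; fin_cases v <;> simp [pv, F.ik, F.il, F.ik.mul_right F.il]
  have hj : ∀ v, Commute F.j (pv F.k F.l v) := by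
    intro v; fin_cases v <;> simp [pv, F.jk, F.jl, F.jk.mul_right F.jl]
  have h1 := hi v
  have h2 := hj v
  have h3 := h1.mul_left h2
  generalize pv F.k F.l v = R at *
  fin_cases u <;> simp [pv, h1, h2, h3]

theorem qv_mul (p q : Q5) : F.qv p * F.qv q = F.qv (qMul p q) := by
  obtain ⟨u, v, e⟩ := p
  obtain ⟨u', v', e'⟩ := q
  simp only [qMul, qv, F.s_pow_add]
  set P := pv F.i F.j u with hP
  set R := pv F.k F.l v with hR
  set P' := pv F.i F.j u' with hP'
  set R' := pv F.k F.l v' with hR'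
  calc P * R * F.s ^ (e : ℕ) * (P' * R' * F.s ^ (e' : ℕ))
      = P * R * (F.s ^ (e : ℕ) * (P' * R')) * F.s ^ (e' : ℕ) := by group
    _ = P * R * (P' * R' * F.s ^ (e : ℕ)) * F.s ^ (e' : ℕ) := by
        rw [(((F.s_pv u').1.mul_right (F.s_pv v').2).pow_left (e : ℕ)).eq]
    _ = P * (R * P') * R' * (F.s ^ (e : ℕ) * F.s ^ (e' : ℕ)) := by group
    _ = P * P' * (R * R') * (F.s ^ (e : ℕ) * F.s ^ (e' : ℕ)) := by
        rw [hP', hR, ← (F.pv_comm u' v).eq]; group
    _ = pv F.i F.j (qX u u') * (F.s ^ (qS u u' : ℕ) * pv F.k F.l (qX v v')) * F.s ^ (qS v v' : ℕ) *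
          (F.s ^ (e : ℕ) * F.s ^ (e' : ℕ)) := by
        rw [hP, hR, hP', hR', F.qa.pv_mul F.s_sq, F.qb.pv_mul F.s_sq]; group
    _ = pv F.i F.j (qX u u') * pv F.k F.l (qX v v') *
          (F.s ^ (qS u u' : ℕ) * F.s ^ (qS v v' : ℕ) * (F.s ^ (e : ℕ) * F.s ^ (e' : ℕ))) := by
        rw [((F.s_pv _).2.pow_left (qS u u' : ℕ)).eq]; group
    _ = _ := by
        congr 1
        simp only [← pow_add]
        congr 1
        omega

theorem x_qv (a : Fin 3) (q : Q5) : F.x ^ (a : ℕ) * F.qv q = F.qv (actX a q) * F.x ^ (a : ℕ) := by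
  have one : ∀ q, F.x * F.qv q = F.qv (actX 1 q) * F.x := by
    rintro ⟨u, v, e⟩
    have hs : MulAut.conj F.x F.s = F.s := by
      rw [MulAut.conj_apply, ← F.sx.eq, mul_inv_cancel_right]
    have h : MulAut.conj F.x (F.qv (u, v, e)) = F.qv (actX 1 (u, v, e)) := by
      simp only [qv, actX, map_mul, map_pow, hs]
      rw [show MulAut.conj F.x (pv F.i F.j u) = (MulAut.conj F.x).toMonoidHom (pv F.i F.j u) from rfl,
        show MulAut.conj F.x (pv F.k F.l v) = (MulAut.conj F.x).toMonoidHom (pv F.k F.l v) from rfl, map_pv, map_pv]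
      simp only [MulEquiv.coe_toMonoidHom, MulAut.conj_apply, F.xi, F.xj, F.xk, F.xl, F.qa.shift F.s_sq,
        F.qb.shift F.s_sq]
    rw [MulAut.conj_apply] at h
    exact mul_inv_eq_iff_eq_mul.1 h
  have hz : ∀ q, actX 0 q = q ∧ actX 1 (actX 1 q) = actX 2 q := by decide +kernel
  fin_cases a
  · simp [(hz q).1]
  · simpa using one q
  · show F.x ^ 2 * F.qv q = F.qv (actX 2 q) * F.x ^ 2
    rw [pow_two, mul_assoc, one, ← mul_assoc, one, mul_assoc, (hz q).2]

theorem t_qv (q : Q5) : F.t * F.qv q = F.qv (actT sw q) * F.t := by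
  obtain ⟨u, v, e⟩ := q
  have hs : MulAut.conj F.t F.s = F.s := by
    rw [MulAut.conj_apply, ← F.st.eq, mul_inv_cancel_right]
  have h : MulAut.conj F.t (F.qv (u, v, e)) = F.qv (actT sw (u, v, e)) := by
    simp only [qv, actT, map_mul, map_pow, hs, F.s_pow_add]
    rw [show MulAut.conj F.t (pv F.i F.j u) = (MulAut.conj F.t).toMonoidHom (pv F.i F.j u) from rfl,
      show MulAut.conj F.t (pv F.k F.l v) = (MulAut.conj F.t).toMonoidHom (pv F.k F.l v) from rfl, map_pv, map_pv]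
    simp only [MulEquiv.coe_toMonoidHom, MulAut.conj_apply, F.ti, F.tj, F.tk, F.tl]
    cases sw
    · simp only [Bool.false_eq_true, if_false, F.qa.swap F.s_sq, F.qb.swap F.s_sq]
      calc pv F.i F.j (th u) * F.s ^ (nzU u : ℕ) * (pv F.k F.l (th v) * F.s ^ (nzU v : ℕ)) * F.s ^ (e : ℕ)
          = pv F.i F.j (th u) * (F.s ^ (nzU u : ℕ) * pv F.k F.l (th v)) * F.s ^ (nzU v : ℕ) * F.s ^ (e : ℕ) := by group
        _ = _ := by rw [((F.s_pv _).2.pow_left (nzU u : ℕ)).eq]; group
    · simp only [if_true, F.qa.swap F.s_sq, F.qb.swap F.s_sq]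
      calc pv F.k F.l (th u) * F.s ^ (nzU u : ℕ) * (pv F.i F.j (th v) * F.s ^ (nzU v : ℕ)) * F.s ^ (e : ℕ)
          = pv F.k F.l (th u) * (F.s ^ (nzU u : ℕ) * pv F.i F.j (th v)) * F.s ^ (nzU v : ℕ) * F.s ^ (e : ℕ) := by group
        _ = pv F.k F.l (th u) * pv F.i F.j (th v) * F.s ^ (nzU u : ℕ) * F.s ^ (nzU v : ℕ) * F.s ^ (e : ℕ) := by
            rw [((F.s_pv _).1.pow_left (nzU u : ℕ)).eq]; group
        _ = _ := by rw [← (F.pv_comm (th v) (th u)).eq]; group
  rw [MulAut.conj_apply] at h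
  exact mul_inv_eq_iff_eq_mul.1 h

theorem tail (a c : Fin 3) (b g : Fin 2) :
    F.x ^ (a : ℕ) * F.t ^ (b : ℕ) * (F.x ^ (c : ℕ) * F.t ^ (g : ℕ)) =
      F.s ^ ((if d then b * g else 0 : Fin 2) : ℕ) *
        (F.x ^ ((a + if b = 0 then c else -c : Fin 3) : ℕ) * F.t ^ ((b + g : Fin 2) : ℕ)) := by
  rw [F.x_pow_add]
  have htx : F.t * F.x ^ (c : ℕ) = F.x ^ ((-c : Fin 3) : ℕ) * F.t := by
    rw [F.x_pow_neg, ← inv_pow, ← F.tx, conj_pow, inv_mul_cancel_right]
  fin_cases b
  · fin_cases g <;> simp [mul_assoc]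
  · fin_cases g
    · simp [mul_assoc, htx]
    · simp only [Fin.mk_one, Fin.isValue, pow_one, one_ne_zero, if_false]
      calc F.x ^ (a : ℕ) * F.t * (F.x ^ (c : ℕ) * F.t)
          = F.x ^ (a : ℕ) * (F.t * F.x ^ (c : ℕ)) * F.t := by group
        _ = F.x ^ (a : ℕ) * F.x ^ ((-c : Fin 3) : ℕ) * (F.t * F.t) := by rw [htx]; group
        _ = _ := by
          rw [F.tt]
          cases d
          · simp
          · simp only [if_true]
            rw [← (((F.sx).pow_right (a : ℕ)).mul_right ((F.sx).pow_right _)).eq]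
            simp

theorem f_mul (m n : Fin 192) : F.f (nfMul sw d m n) = F.f m * F.f n := by
  rw [nfMul, f, (parts_mk _ _ _).1, (parts_mk _ _ _).2.1, (parts_mk _ _ _).2.2]
  simp only [f]
  set a := nA m
  set b := nB m
  have hmove : F.x ^ (a : ℕ) * F.t ^ (b : ℕ) * F.qv (nQ n) =
      F.qv (actX a (if b = 0 then nQ n else actT sw (nQ n))) * (F.x ^ (a : ℕ) * F.t ^ (b : ℕ)) := by
    rcases (show ∀ b : Fin 2, b = 0 ∨ b = 1 by decide) b with hb | hb <;> rw [hb]
    · simp [F.x_qv]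
    · simp only [Fin.isValue, Fin.val_one, pow_one, one_ne_zero, if_false]
      rw [mul_assoc, F.t_qv, ← mul_assoc, F.x_qv, mul_assoc]
  symm
  calc F.qv (nQ m) * F.x ^ (a : ℕ) * F.t ^ (b : ℕ) * (F.qv (nQ n) * F.x ^ (nA n : ℕ) * F.t ^ (nB n : ℕ))
      = F.qv (nQ m) * (F.x ^ (a : ℕ) * F.t ^ (b : ℕ) * F.qv (nQ n)) * (F.x ^ (nA n : ℕ) * F.t ^ (nB n : ℕ)) := by
        group
    _ = (F.qv (nQ m) * F.qv (actX a (if b = 0 then nQ n else actT sw (nQ n)))) *
        (F.x ^ (a : ℕ) * F.t ^ (b : ℕ) * (F.x ^ (nA n : ℕ) * F.t ^ (nB n : ℕ))) := by rw [hmove]; group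
    _ = _ := by
      rw [F.qv_mul, F.tail]
      simp only [qv, F.s_pow_add]
      group

theorem f_z : F.f nZ = F.s := by
  simp [f, qv, pv, show nQ nZ = (0, 0, 1) by decide, show nA nZ = 0 by decide, show nB nZ = 0 by decide]

theorem f_one : F.f 0 = 1 := by
  simp [f, qv, pv, show nQ 0 = (0, 0, 0) by decide, show nA 0 = 0 by decide, show nB 0 = 0 by decide]

theorem f_ker {n : Fin 192} (h : F.f n = 1) : n = 0 := by
  by_contra hn
  have step : ∀ P : Fin 192 → Bool, (∀ c, P c = true → F.f c ≠ 1) → ∀ c, kStep sw d P c = true → F.f c ≠ 1 := by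
    intro P hP c hc hc1
    simp only [kStep, Bool.or_eq_true, List.any_eq_true] at hc
    rcases hc with (hc | hc) | ⟨g, hg, hc⟩
    · exact hP c hc hc1
    · exact hP _ hc (by rw [F.f_mul, hc1, one_mul])
    · refine hP _ hc ?_
      rw [F.f_mul, F.f_mul, F.f_mul, hc1, mul_one, mul_one, ← F.f_mul, gens_inv sw d g hg, F.f_one]
  refine step _ (step _ (step _ ?_)) n (reach sw d n hn) h
  intro c hc
  rw [beq_iff_eq] at hc
  rw [hc, F.f_z]
  exact F.s_ne

theorem f_inj : Function.Injective F.f := by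
  intro m n h
  have hinv : ∀ i, F.f (nInv sw d i) = (F.f i)⁻¹ := fun i =>
    eq_inv_of_mul_eq_one_right (by rw [← F.f_mul, nInv_spec, F.f_one])
  have h0 : nfMul sw d m (nInv sw d n) = 0 := F.f_ker (by rw [F.f_mul, hinv, h, mul_inv_cancel])
  have h1 : nfMul sw d n (nInv sw d n) = 0 := nInv_spec sw d n
  exact nf_cancel sw d _ _ _ (h0.trans h1.symm)

end Frame

end Cfsg.Lib.AltEightNine.Ident
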