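import Cfsg.Agent.Lib.AltEightNine.Ident2.Table

/-!
# Counts in the groups without involutions outside the core
-/

set_option autoImplicit false
set_option maxRecDepth 100000

namespace Cfsg.Lib.AltEightNine.Ident

theorem minus_left : ∀ sw : Bool, ∀ i : Fin 192, inQ i = true → nfMul sw true i i = 0 → i ≠ 0 → i ≠ nZ →
    (cntC sw true i, cntS sw true i nZ) ∈ [(16, 4), (32, 12)] := by
  decide +kernel

theorem minus_right : ∀ sw : Bool, ∀ i : Fin 192, nfMul sw true i i = 0 → i ≠ 0 → i ≠ nZ →
    (cntC sw true i, cntS sw true i i) ∈ [(16, 0), (32, 4)] := by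
  decide +kernel

end Cfsg.Lib.AltEightNine.Ident
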