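import Cfsg.Agent.Lib.AltEightNine.Ident2.Table

/-!
# The normal forms agree with the table
-/

set_option autoImplicit false
set_option maxRecDepth 100000

namespace Cfsg.Lib.AltEightNine.Ident

theorem bMul_eq : ∀ i j : Fin 192, nfMul true false i j = bMul i j := by decide +kernel

theorem bCls_core : ∀ i : Fin 192, inQ i = true → nfMul true false i i = 0 → i ≠ 0 → i ≠ nZ →
    bCls i = 2 ∨ bCls i = 3 ∨ bCls i = 4 := by
  decide +kernel

end Cfsg.Lib.AltEightNine.Ident
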