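import Cfsg.Agent.Lib.AltEightNine.Ident2.Table
import Cfsg.Agent.Lib.MTwelveRecog.Model

/-!
# The normal forms of the split group fixing both factors agree with the table of the Mathieu group
-/

set_option autoImplicit false
set_option maxRecDepth 100000

namespace Cfsg.Lib.AltEightNine.Ident

open MTwelveRecog

/-- The packed indices of the normal forms. -/
def piN : ℕ := 830037088120573432011851469651018074472503830169159756266701367328515082242861441446090696917786469875367271997579981592024788123991611430827545387689882925327442089442582744494069516273127415990714587516555490872366672485163771789290964612820345399797527184704754957001919058059741481204030988390775560390582293290276731240697972558786330515304730435947458433678351438657561872023835372310930699501898457774198263434392608786314804972296241542169826944149835776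

/-- The packed normal forms of the indices. -/
def piInvN : ℕ := 409102247093933410878115651926628105370401725614721564046071078763488072377239543156461054252099300511118628067685882500217932560306197823680565261954667973932859629942332615596879735292413915685838485830368396521882489912076906145433050844007171187950273813657211545617185623599883587408562589700745785183816256113306885229542505728682346290653936497963234601479556610655430141105723319389527528644030111200521285228704780473588183359138798480759334154751851776

/-- The index of a normal form. -/
def piT (i : Fin 192) : Fin 192 := bIdx piN i

/-- The normal form of an index. -/
def piI (i : Fin 192) : Fin 192 := bIdx piInvN i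

theorem piI_hom : ∀ i j : Fin 192, piI (cMul i j) = nfMul false false (piI i) (piI j) := by decide +kernel

theorem piI_facts : (∀ i, piI (piT i) = i) ∧ (∀ i, piT (piI i) = i) ∧ piI cT = nZ := by decide +kernel

theorem cCls_core : ∀ i : Fin 192, inQ i = true → nfMul false false i i = 0 → i ≠ 0 → i ≠ nZ →
    cCls (piT i) = 4 ∨ cCls (piT i) = 12 := by
  decide +kernel

end Cfsg.Lib.AltEightNine.Ident
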