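import Cfsg.Agent.Lib.AltEightNine.Ident2.Frame
import Cfsg.Agent.Lib.AltEightNine.Ident2.TableMul
import Cfsg.Agent.Lib.AltEightNine.Ident2.TableMinus
import Cfsg.Agent.Lib.AltEightNine.Ident2.TableTwelve
import Cfsg.Agent.Lib.MTwelveRecog.Setup

/-!
# The centraliser setups from a frame
-/

set_option autoImplicit false
set_option maxRecDepth 100000
set_option linter.unusedSectionVars false

namespace Cfsg.Lib.AltEightNine.Ident

universe u

variable {G : Type u} [Group G] [Finite G]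

namespace Frame

variable {sw d : Bool} (F : Frame G sw d)

/-- The frame enumerates the whole centraliser and a conjugate of the involution lies in the core. -/
def Good : Prop :=
  (∀ g : G, g * F.s = F.s * g ↔ ∃ i, F.f i = g) ∧
    ∃ (g : G) (n : Fin 192), inQ n = true ∧ g * F.s * g⁻¹ = F.f n ∧ F.f n ≠ F.s

theorem conj_facts {g : G} {n : Fin 192} (h : g * F.s * g⁻¹ = F.f n) (hne : F.f n ≠ F.s) :
    nfMul sw d n n = 0 ∧ n ≠ 0 ∧ n ≠ nZ := by
  refine ⟨F.f_inj ?_, fun e => ?_, fun e => ?_⟩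
  · rw [F.f_mul, F.f_one, ← h, show g * F.s * g⁻¹ * (g * F.s * g⁻¹) = g * (F.s * F.s) * g⁻¹ by group, F.s_sq,
      mul_one, mul_inv_cancel]
  · rw [e, F.f_one, conj_eq_one_iff] at h
    exact F.s_ne h
  · exact hne (by rw [e, F.f_z])

theorem Good.alt {F : Frame G true false} (h : F.Good) :
    ∃ S : TabSetup G, ∃ (g : G) (i : Fin 192), (bCls i = 2 ∨ bCls i = 3 ∨ bCls i = 4) ∧ g * S.s * g⁻¹ = S.f i := by
  obtain ⟨hm, g, n, hQ, hg, hne⟩ := h
  obtain ⟨h2, h0, hz⟩ := F.conj_facts hg hne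
  exact ⟨⟨F.s, F.f, F.f_inj, fun i j => by rw [← bMul_eq, F.f_mul], F.f_z, hm⟩, g, n,
    bCls_core n hQ h2 h0 hz, hg⟩

theorem Good.twelve {F : Frame G false false} (h : F.Good) :
    ∃ S : MTwelveRecog.Setup G, ∃ (g : G) (i : Fin 192),
      (MTwelveRecog.cCls i = 4 ∨ MTwelveRecog.cCls i = 12) ∧ g * S.t * g⁻¹ = S.f i := by
  obtain ⟨hm, g, n, hQ, hg, hne⟩ := h
  obtain ⟨h2, h0, hz⟩ := F.conj_facts hg hne
  obtain ⟨pl, pr, pc⟩ := piI_facts
  refine ⟨⟨F.s, F.f ∘ piI, ?_, ?_, ?_, ?_⟩, g, piT n, cCls_core n hQ h2 h0 hz, ?_⟩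
  · exact F.f_inj.comp (Function.LeftInverse.injective pr)
  · intro i j; simp only [Function.comp_apply, piI_hom, F.f_mul]
  · simp only [Function.comp_apply, pc, F.f_z]
  · intro x
    rw [hm x]
    exact ⟨fun ⟨i, e⟩ => ⟨piT i, by simp only [Function.comp_apply, pl, e]⟩, fun ⟨i, e⟩ => ⟨piI i, e⟩⟩
  · simp only [Function.comp_apply, pl]; exact hg

theorem Good.minus_false {sw : Bool} {F : Frame G sw true} (h : F.Good) : False := by
  obtain ⟨hm, g, n, hQ, hg, hne⟩ := h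
  obtain ⟨h2, h0, hz⟩ := F.conj_facts hg hne
  obtain ⟨m, hm'⟩ := (hm (g⁻¹ * F.s * g)).1 (by
    have hc : F.f n * F.s = F.s * F.f n := (hm _).2 ⟨n, rfl⟩
    rw [← hg] at hc
    calc g⁻¹ * F.s * g * F.s = g⁻¹ * (F.s * (g * F.s * g⁻¹)) * g := by group
      _ = g⁻¹ * (g * F.s * g⁻¹ * F.s) * g := by rw [hc]
      _ = _ := by group)
  have hgm : g⁻¹ * F.s * g⁻¹⁻¹ = F.f m := by rw [inv_inv, hm']
  have hmne : F.f m ≠ F.s := by
    intro e
    rw [e] at hm'
    exact hne (by rw [← hg]; nth_rw 1 [hm']; group)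
  obtain ⟨m2, m0, mz⟩ := F.conj_facts hgm hmne
  have count : ∀ (i : Fin 192) (P : G → Prop) (b : Fin 192 → Bool),
      (∀ k, b k = true ↔ P (F.f k)) →
      Nat.card {x : G // x * F.s = F.s * x ∧ x * F.f i = F.f i * x ∧ P x} =
        ((List.finRange 192).filter fun k => nfMul sw true i k == nfMul sw true k i && b k).length := by
    intro i P b hb
    have hiff : ∀ k, (nfMul sw true i k == nfMul sw true k i && b k) = true ↔
        F.f k * F.s = F.s * F.f k ∧ F.f k * F.f i = F.f i * F.f k ∧ P (F.f k) := by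
      intro k
      rw [Bool.and_eq_true, beq_iff_eq, hb, ← F.f_inj.eq_iff, F.f_mul, F.f_mul]
      exact ⟨fun e => ⟨(hm _).2 ⟨k, rfl⟩, e.1.symm, e.2⟩, fun e => ⟨e.2.1.symm, e.2.2⟩⟩
    rw [show ((List.finRange 192).filter fun k => nfMul sw true i k == nfMul sw true k i && b k).length =
      Fintype.card {k : Fin 192 // (nfMul sw true i k == nfMul sw true k i && b k) = true} from ?_,
      ← Nat.card_eq_fintype_card]
    · refine (Nat.card_eq_of_bijective (fun k => ⟨F.f k.1, (hiff _).1 k.2⟩)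
        ⟨fun a c e => Subtype.ext (F.f_inj (congrArg Subtype.val e)), ?_⟩).symm
      rintro ⟨x, hx⟩
      obtain ⟨k, rfl⟩ := (hm x).1 hx.1
      exact ⟨⟨k, (hiff k).2 hx⟩, rfl⟩
    · rw [Fintype.card_subtype, ← List.toFinset_card_of_nodup ((List.nodup_finRange 192).filter _)]
      congr 1; ext; simp
  have hconj : ∀ (P P' : G → Prop), (∀ x, P' (g⁻¹ * x * g) ↔ P x) →
      Nat.card {x : G // x * F.s = F.s * x ∧ x * F.f n = F.f n * x ∧ P x} =
        Nat.card {x : G // x * F.s = F.s * x ∧ x * F.f m = F.f m * x ∧ P' x} := by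
    intro P P' hP
    refine Nat.card_congr (Equiv.subtypeEquiv (MulAut.conj g⁻¹).toEquiv fun x => ?_)
    show _ ↔ g⁻¹ * x * g⁻¹⁻¹ * F.s = F.s * (g⁻¹ * x * g⁻¹⁻¹) ∧
      g⁻¹ * x * g⁻¹⁻¹ * F.f m = F.f m * (g⁻¹ * x * g⁻¹⁻¹) ∧ P' (g⁻¹ * x * g⁻¹⁻¹)
    simp only [inv_inv, hP, hm', ← hg]
    have cj : ∀ y, g⁻¹ * x * g * (g⁻¹ * y * g) = g⁻¹ * y * g * (g⁻¹ * x * g) ↔ x * y = y * x := fun y => by
      rw [show g⁻¹ * x * g * (g⁻¹ * y * g) = g⁻¹ * (x * y) * g by group,
        show g⁻¹ * y * g * (g⁻¹ * x * g) = g⁻¹ * (y * x) * g by group, mul_left_inj, mul_right_inj]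
    have e := cj (g * F.s * g⁻¹)
    rw [show g⁻¹ * (g * F.s * g⁻¹) * g = F.s by group] at e
    rw [e, cj]
    tauto
  have hsize : cntC sw true n = cntC sw true m := by
    have h1 := count n (fun _ => True) (fun _ => true) (by simp)
    have h2 := count m (fun _ => True) (fun _ => true) (by simp)
    simp only [Bool.and_true] at h1 h2
    rw [cntC, cntC, ← h1, ← h2]
    exact hconj _ _ fun _ => Iff.rfl
  have hsq : cntS sw true n nZ = cntS sw true m m := by
    have h1 := count n (fun x => x * x = F.s) (fun k => nfMul sw true k k == nZ)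
      (fun k => by rw [beq_iff_eq, ← F.f_inj.eq_iff, F.f_mul, F.f_z])
    have h2 := count m (fun x => x * x = F.f m) (fun k => nfMul sw true k k == m)
      (fun k => by rw [beq_iff_eq, ← F.f_inj.eq_iff, F.f_mul])
    rw [cntS, cntS, ← h1, ← h2]
    refine hconj _ _ fun x => ?_
    rw [hm', show g⁻¹ * x * g * (g⁻¹ * x * g) = g⁻¹ * (x * x) * g by group, mul_left_inj, mul_right_inj]
  have a := minus_left sw n hQ h2 h0 hz
  have b := minus_right sw m m2 m0 mz
  rw [hsize, hsq] at a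
  simp only [List.mem_cons, List.not_mem_nil, or_false, Prod.mk.injEq] at a b
  omega

end Frame

end Cfsg.Lib.AltEightNine.Ident
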