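import Cfsg.Agent.Lib.AltEightNine.Ident2.Build
import Cfsg.Agent.Lib.AltEightNine.Ident2.Setups
import Cfsg.Agent.Lib.PGroup.ExtraspecialClassify
import Cfsg.Agent.Lib.Core.Cores

/-!
# The centraliser is one of the two table groups
-/

set_option autoImplicit false
set_option linter.unusedSectionVars false

namespace Cfsg.Lib.AltEightNine

open Subgroup
open scoped commutatorElement

universe u

variable {G : Type u} [Group G] [Finite G]

theorem card_centralizer_core (L : Subgroup G) (Q : Subgroup G)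
    (hQ : Q = (Cfsg.pCore 2 L).map L.subtype) (hQcard : Nat.card Q = 32)
    (e : L ⧸ Cfsg.pCore 2 L ≃* Equiv.Perm (Fin 3)) : Nat.card L = 192 := by
  rw [Subgroup.card_eq_card_quotient_mul_card_subgroup (Cfsg.pCore 2 L), Nat.card_congr e.toEquiv, Nat.card_perm,
    Nat.card_fin, ← Subgroup.card_map_of_injective L.subtype_injective, ← hQ, hQcard]
  rfl

theorem exists_inverter (s : G) (hs : orderOf s = 2) (L : Subgroup G) (hL : L = centralizer ({s} : Set G))
    (Q : Subgroup G) (hQ : Q = (Cfsg.pCore 2 L).map L.subtype) (hQcard : Nat.card Q = 32)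
    (e : L ⧸ Cfsg.pCore 2 L ≃* Equiv.Perm (Fin 3))
    (X : Sylow 3 L) (hCQX : Q ⊓ centralizer (((X : Subgroup L).map L.subtype : Subgroup G) : Set G) = zpowers s) :
    ∃ x y : G, x ∈ L ∧ y ∈ L ∧ x ^ 3 = 1 ∧ y * x * y⁻¹ = x⁻¹ ∧ (y * y = 1 ∨ y * y = s) ∧
      ∀ q ∈ Q, x * q * x⁻¹ = q → q = 1 ∨ q = s := by
  classical
  have : Fact (Nat.Prime 3) := ⟨Nat.prime_three⟩
  have : Fact (Nat.Prime 2) := ⟨Nat.prime_two⟩
  set P := Cfsg.pCore 2 L with hP
  have hcard := card_centralizer_core L Q hQ hQcard e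
  have hX : Nat.card (X : Subgroup L) = 3 := by
    have h2 : (192 : ℕ).factorization 3 = 1 := by
      rw [show (192 : ℕ) = 3 * 64 from rfl, Nat.factorization_mul (by norm_num) (by norm_num), Finsupp.add_apply,
        Nat.Prime.factorization_self Nat.prime_three, Nat.factorization_eq_zero_of_not_dvd (by norm_num)]
    rw [X.card_eq_multiplicity, hcard, h2, pow_one]
  have hpow : ∀ g : G, g ∈ zpowers s → g = 1 ∨ g = s := by
    intro g hg
    obtain ⟨k, rfl⟩ := mem_zpowers_iff.1 hg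
    rw [← zpow_mod_orderOf s k, hs]
    rcases Int.emod_two_eq_zero_or_one k with h | h <;> simp [h]
  have hsL : s ∈ L := by rw [hL, mem_centralizer_singleton_iff]
  have hsQ : s ∈ Q := (inf_le_left : Q ⊓ _ ≤ Q) (hCQX ▸ mem_zpowers s)
  have hsc : ∀ a : L, (a : G) * s = s * a := fun a =>
    mem_centralizer_singleton_iff.1 (hL ▸ a.2 : (a : G) ∈ centralizer ({s} : Set G))
  obtain ⟨x, hx⟩ := (isCyclic_of_prime_card hX).exists_generator
  have hgen : zpowers (x : L) = (X : Subgroup L) := by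
    refine le_antisymm (zpowers_le.2 x.2) fun g hg => ?_
    obtain ⟨k, hk⟩ := mem_zpowers_iff.1 (hx ⟨g, hg⟩)
    exact mem_zpowers_iff.2 ⟨k, by simpa using congrArg Subtype.val hk⟩
  have hx3 : (x : L) ^ 3 = 1 := by
    have := pow_card_eq_one' (G := (X : Subgroup L)) (x := x)
    rw [hX] at this
    simpa using congrArg Subtype.val this
  have hfix : ∀ q ∈ Q, ((x : L) : G) * q * ((x : L) : G)⁻¹ = q → q = 1 ∨ q = s := by
    intro q hq hc
    refine hpow q ?_
    rw [← hCQX]
    refine ⟨hq, mem_centralizer_iff.2 ?_⟩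
    rintro g ⟨a, ha, rfl⟩
    have hax : a ∈ zpowers (x : L) := by rw [hgen]; exact ha
    obtain ⟨k, rfl⟩ := mem_zpowers_iff.1 hax
    have hcom : Commute ((x : L) : G) q := mul_inv_eq_iff_eq_mul.1 hc
    simpa using (hcom.zpow_left k).eq
  -- the normaliser of the Sylow subgroup
  set N := normalizer ((X : Subgroup L) : Set L) with hN
  let φ : N →* Equiv.Perm (Fin 3) := (e.toMonoidHom.comp (QuotientGroup.mk' P)).comp N.subtype
  have hker : ∀ n : N, φ n = 1 → ((n : L) : G) = 1 ∨ ((n : L) : G) = s := by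
    intro n hn
    have hnP : (n : L) ∈ P := by
      have : e (QuotientGroup.mk' P (n : L)) = e 1 := by rw [map_one]; exact hn
      simpa using e.injective this
    have hnQ : ((n : L) : G) ∈ Q := hQ ▸ ⟨_, hnP, rfl⟩
    refine hfix _ hnQ ?_
    have hmem : (n : L) * (x : L) * (n : L)⁻¹ * (x : L)⁻¹ ∈ (X : Subgroup L) ⊓ P := by
      refine Subgroup.mem_inf.2 ⟨mul_mem ((mem_normalizer_iff.1 n.2 _).1 x.2) (inv_mem x.2), ?_⟩
      rw [show (n : L) * (x : L) * (n : L)⁻¹ * (x : L)⁻¹ = (n : L) * ((x : L) * (n : L)⁻¹ * (x : L)⁻¹) by group]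
      exact mul_mem hnP ((inferInstance : (Cfsg.pCore 2 L).Normal).conj_mem _ (inv_mem hnP) _)
    have hbot : (X : Subgroup L) ⊓ P = ⊥ := disjoint_iff.1 (disjoint_of_coprime_natCard (by
      rw [hX]
      obtain ⟨k, hk⟩ := IsPGroup.iff_card.1 (Cfsg.Lib.Core.pCore_isPGroup 2 L)
      rw [hP, hk]
      exact Nat.Coprime.pow_right _ (by norm_num)))
    rw [hbot, mem_bot, mul_inv_eq_one, mul_inv_eq_iff_eq_mul] at hmem
    have := congrArg Subtype.val hmem
    simp only [Subgroup.coe_mul] at this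
    rw [← this, mul_inv_cancel_right]
  have h6 : Nat.card (Equiv.Perm (Fin 3)) = 6 := by rw [Nat.card_perm, Nat.card_fin]; rfl
  have hk2 : Nat.card φ.ker ≤ 2 := by
    have hle : Nat.card φ.ker ≤ ({1, s} : Set G).ncard := by
      rw [← Nat.card_coe_set_eq]
      refine Nat.card_le_card_of_injective (fun n : φ.ker => (⟨((n.1 : L) : G), by simpa using hker n.1 n.2⟩ :
        ({1, s} : Set G))) fun a b h => ?_
      exact Subtype.ext (Subtype.ext (Subtype.ext (congrArg Subtype.val h :)))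
    have := Set.ncard_insert_le (1 : G) {s}
    rw [Set.ncard_singleton] at this
    omega
  have hNprod : Nat.card N = Nat.card φ.ker * Nat.card φ.range := by
    rw [Subgroup.card_eq_card_quotient_mul_card_subgroup φ.ker,
      Nat.card_congr (QuotientGroup.quotientKerEquivRange φ).toEquiv, mul_comm]
  have hrange : Nat.card φ.range ∣ 6 := h6 ▸ Subgroup.card_subgroup_dvd_card φ.range
  have hsN : (⟨s, hsL⟩ : L) ∈ N := by
    have hcs : ∀ a : L, (⟨s, hsL⟩ : L) * a * (⟨s, hsL⟩ : L)⁻¹ = a := fun a => by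
      refine Subtype.ext ?_
      simp only [Subgroup.coe_mul, Subgroup.coe_inv]
      rw [← hsc a, mul_inv_cancel_right]
    exact mem_normalizer_fintype fun a ha => by rw [hcs a]; exact ha
  have h6N : 6 ∣ Nat.card N := by
    refine (show Nat.lcm 2 3 = 6 from rfl) ▸ Nat.lcm_dvd ?_ ?_
    · have h := orderOf_dvd_natCard (⟨⟨s, hsL⟩, hsN⟩ : N)
      rwa [← orderOf_coe, ← orderOf_coe, hs] at h
    · rw [← hX]; exact card_dvd_of_le le_normalizer
  have hN12 : Nat.card N = 12 := by
    have h1 := card_sylow_modEq_one (p := 3) (G := L)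
    rw [X.card_eq_index_normalizer, Nat.ModEq] at h1
    have h2 := N.card_mul_index
    rw [hcard] at h2
    have hle : Nat.card N ≤ 12 := by
      rw [hNprod]
      exact Nat.mul_le_mul hk2 (Nat.le_of_dvd (by norm_num) hrange)
    obtain ⟨m, hm⟩ := h6N
    rcases (show m = 0 ∨ m = 1 ∨ m = 2 by omega) with rfl | rfl | rfl
    · rw [hm] at h2; omega
    · rw [hm] at h2; change N.index % 3 = 1 % 3 at h1; omega
    · rw [hm]
  have hsurj : φ.range = ⊤ := by
    refine eq_top_of_card_eq _ ?_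
    rw [h6]
    have hb := Nat.le_of_dvd (by norm_num) hrange
    have : Nat.card φ.ker * Nat.card φ.range = 12 := hNprod ▸ hN12
    have h' : Nat.card φ.ker * Nat.card φ.range ≤ 2 * Nat.card φ.range := Nat.mul_le_mul_right _ hk2
    omega
  have hxN : (x : L) ∈ N := le_normalizer x.2
  obtain ⟨n, hn⟩ : ∃ n : N, φ n = Equiv.swap 0 1 := (hsurj ▸ mem_top _ : Equiv.swap 0 1 ∈ φ.range)
  obtain ⟨k, hk⟩ := mem_zpowers_iff.1 (by
    rw [hgen]; exact (mem_normalizer_iff.1 n.2 _).1 x.2 : (n : L) * (x : L) * (n : L)⁻¹ ∈ zpowers (x : L))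
  refine ⟨((x : L) : G), ((n : L) : G), (x : L).2, (n : L).2, by simpa using congrArg Subtype.val hx3, ?_, ?_, hfix⟩
  · rw [← zpow_mod_orderOf] at hk
    have hox : orderOf (x : L) = 3 := by
      refine orderOf_eq_prime hx3 fun h => ?_
      rw [h, zpowers_one_eq_bot] at hgen
      rw [← hgen, card_bot] at hX
      omega
    rw [hox] at hk
    rcases (show k % (3 : ℕ) = 0 ∨ k % (3 : ℕ) = 1 ∨ k % (3 : ℕ) = 2 by omega) with h | h | h <;> rw [h] at hk
    · exfalso
      rw [zpow_zero, eq_comm, conj_eq_one_iff] at hk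
      rw [hk, orderOf_one] at hox
      omega
    · exfalso
      rw [zpow_one, eq_comm, mul_inv_eq_iff_eq_mul] at hk
      have hc : φ n * φ ⟨(x : L), hxN⟩ = φ ⟨(x : L), hxN⟩ * φ n := by
        rw [← map_mul, ← map_mul]
        exact congrArg φ (Subtype.ext hk)
      rw [hn] at hc
      have h3 : φ ⟨(x : L), hxN⟩ ^ 3 = 1 := by
        rw [← map_pow]; exact (congrArg φ (Subtype.ext hx3 : (⟨(x : L), hxN⟩ : N) ^ 3 = 1)).trans φ.map_one
      have hz : ∀ σ : Equiv.Perm (Fin 3), Equiv.swap 0 1 * σ = σ * Equiv.swap 0 1 → σ ^ 3 = 1 → σ = 1 := by decide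
      rcases hker _ (hz _ hc h3) with h' | h'
      · have : orderOf (x : L) = 1 := by rw [← orderOf_coe, h', orderOf_one]
        omega
      · have : orderOf (x : L) = 2 := by rw [← orderOf_coe]; exact h' ▸ hs
        omega
    · have e2 : (x : L) ^ (2 : ℤ) = (x : L)⁻¹ := by
        rw [zpow_two]; exact eq_inv_of_mul_eq_one_left (by rw [← pow_two, ← pow_succ]; exact hx3)
      rw [e2] at hk
      simpa using congrArg Subtype.val hk.symm
  · have := hker (n * n) (by rw [map_mul, hn, Equiv.swap_mul_self])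
    simpa using this

theorem identify (s : G) (hs : orderOf s = 2) (L : Subgroup G) (hL : L = centralizer ({s} : Set G))
    (Q : Subgroup G) (hQ : Q = (Cfsg.pCore 2 L).map L.subtype)
    (hQex : Cfsg.IsExtraspecial 2 Q) (hQcard : Nat.card Q = 32)
    (e : L ⧸ Cfsg.pCore 2 L ≃* Equiv.Perm (Fin 3))
    (X : Sylow 3 L) (hCQX : Q ⊓ centralizer (((X : Subgroup L).map L.subtype : Subgroup G) : Set G) = zpowers s)
    (hnwc : ∃ g : G, g * s * g⁻¹ ∈ Q ∧ g * s * g⁻¹ ≠ s) :
    (∃ S : MTwelveRecog.Setup G, ∃ (g : G) (i : Fin 192),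
        (MTwelveRecog.cCls i = 4 ∨ MTwelveRecog.cCls i = 12) ∧ g * S.t * g⁻¹ = S.f i) ∨
      (∃ S : TabSetup G, ∃ (g : G) (i : Fin 192),
        (bCls i = 2 ∨ bCls i = 3 ∨ bCls i = 4) ∧ g * S.s * g⁻¹ = S.f i) := by
  have : Fact (Nat.Prime 2) := ⟨Nat.prime_two⟩
  have hcard := card_centralizer_core L Q hQ hQcard e
  have hQL : Q ≤ L := hQ ▸ map_subtype_le _
  have hsQ : s ∈ Q := (inf_le_left : Q ⊓ _ ≤ Q) (hCQX ▸ mem_zpowers s)
  have hs1 : s ≠ 1 := fun h => by rw [h, orderOf_one] at hs; omega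
  have hsL : ∀ g ∈ L, Commute s g := fun g hg => (mem_centralizer_singleton_iff.1 (hL ▸ hg)).symm
  have hnorm : ∀ g ∈ L, ∀ q ∈ Q, g * q * g⁻¹ ∈ Q := by
    intro g hg q hq
    rw [hQ] at hq ⊢
    obtain ⟨a, ha, rfl⟩ := hq
    exact ⟨_, (inferInstance : (Cfsg.pCore 2 L).Normal).conj_mem a ha ⟨g, hg⟩, rfl⟩
  obtain ⟨z, hz, -⟩ := Extraspecial.exists_setting hQex
  have hzz : zpowers z = center Q := by
    refine eq_of_le_of_card_ge (zpowers_le.2 hz.central) ?_
    rw [hQex.2, Nat.card_zpowers, hz.ord]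
  have hscen : (⟨s, hsQ⟩ : Q) ∈ center Q := mem_center_iff.2 fun q => Subtype.ext (hsL q (hQL q.2)).eq.symm
  have hzs : (z : G) = s := by
    rw [← hzz] at hscen
    obtain ⟨k, -, hk⟩ := hz.exists_pow hscen
    have hk' : (z : G) ^ k = s := congrArg Subtype.val hk
    have hz2 : (z : G) ^ 2 = 1 := by simpa using congrArg Subtype.val hz.pow_z
    rcases Nat.even_or_odd k with ⟨m, rfl⟩ | ⟨m, rfl⟩
    · rw [← two_mul, pow_mul, hz2, one_pow] at hk'
      exact absurd hk'.symm hs1
    · rwa [pow_succ, pow_mul, hz2, one_pow, one_mul] at hk'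
  have hz2' : ∀ w ∈ zpowers z, (w : G) = 1 ∨ (w : G) = s := by
    intro w hw
    obtain ⟨k, hk, rfl⟩ := hz.exists_pow hw
    interval_cases k
    · left; simp
    · right; simpa using hzs
  have hss : s * s = 1 := by rw [← pow_two, ← hs, pow_orderOf_eq_one]
  obtain ⟨x, y, hxL, hyL, hx3, hyx, hyy, hfix⟩ := exists_inverter s hs L hL Q hQ hQcard e X hCQX
  let C : Ident.Core G :=
    { Q := Q, s := s, x := x, y := y, s_sq := hss, s_ne := hs1, s_mem := hsQ, card := hQcard
      sq := fun q hq => by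
        rw [← pow_two]
        simpa using hz2' _ (hz.pow ⟨q, hq⟩)
      com := fun a ha b hb => by
        rcases hz2' _ (hz.comm ⟨a, ha⟩ ⟨b, hb⟩) with h | h
        all_goals
          rw [commutatorElement_def] at h
          simp only [Subgroup.coe_mul, Subgroup.coe_inv] at h
        · left
          rwa [mul_inv_eq_iff_eq_mul, mul_inv_eq_iff_eq_mul, one_mul] at h
        · right
          rw [mul_inv_eq_iff_eq_mul, mul_inv_eq_iff_eq_mul, mul_assoc] at h
          exact h
      cen := fun q hq h => by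
        refine hz2' ⟨q, hq⟩ ?_
        rw [hzz, mem_center_iff]
        exact fun r => Subtype.ext (h r r.2)
      sQ := fun q hq => hsL q (hQL hq)
      sx := hsL x hxL, sy := hsL y hyL, x3 := hx3
      xQ := hnorm x hxL, yQ := hnorm y hyL, fix := hfix, yx := hyx, yy := hyy }
  obtain ⟨sw, d, F, hFs, hcomm, hcore⟩ := C.exists_frame
  have hFs' : F.s = s := hFs
  have hgood : F.Good := by
    constructor
    · intro g
      rw [hFs']
      constructor
      · intro hg
        have hb : Function.Bijective (fun i : Fin 192 => (⟨F.f i, by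
            rw [hL, mem_centralizer_singleton_iff]; exact hcomm _ ⟨i, rfl⟩⟩ : L)) := by
          refine (Nat.bijective_iff_injective_and_card _).2 ⟨fun a b h => F.f_inj (congrArg Subtype.val h), ?_⟩
          rw [Nat.card_fin, hcard]
        obtain ⟨i, hi⟩ := hb.2 ⟨g, by rw [hL, mem_centralizer_singleton_iff]; exact hg⟩
        exact ⟨i, congrArg Subtype.val hi⟩
      · rintro ⟨i, rfl⟩
        exact hcomm _ ⟨i, rfl⟩
    · obtain ⟨g, hg, hne⟩ := hnwc
      obtain ⟨n, hn, hfn⟩ := hcore _ hg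
      exact ⟨g, n, hn, by rw [hFs', hfn], by rw [hfn, hFs']; exact hne⟩
  cases d
  · cases sw
    · exact Or.inl hgood.twelve
    · exact Or.inr hgood.alt
  · exact hgood.minus_false.elim

end Cfsg.Lib.AltEightNine
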