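import Cfsg.Agent.Lib.AltEightNine.Table.Model

/-!
# The four groups of order 192 with the given core, by normal forms
-/

set_option autoImplicit false
set_option maxRecDepth 100000

namespace Cfsg.Lib.AltEightNine.Ident

/-- The product of two units among `1, i, j, k`, up to sign. -/
def qX : Fin 4 → Fin 4 → Fin 4 := ![![0, 1, 2, 3], ![1, 0, 3, 2], ![2, 3, 0, 1], ![3, 2, 1, 0]]

/-- The sign of that product. -/
def qS : Fin 4 → Fin 4 → Fin 2 := ![![0, 0, 0, 0], ![0, 1, 0, 1], ![0, 1, 1, 0], ![0, 0, 1, 1]]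

/-- The powers of the cyclic permutation of `i, j, k`. -/
def cycA : Fin 3 → Fin 4 → Fin 4 := ![![0, 1, 2, 3], ![0, 2, 3, 1], ![0, 3, 1, 2]]

/-- The exchange of `i` and `j`. -/
def th : Fin 4 → Fin 4 := ![0, 2, 1, 3]

/-- Whether a unit is not `1`. -/
def nzU : Fin 4 → Fin 2 := ![0, 1, 1, 1]

/-- An element of the core. -/
abbrev Q5 : Type := Fin 4 × Fin 4 × Fin 2

/-- The product in the core. -/
def qMul (p q : Q5) : Q5 :=
  (qX p.1 q.1, qX p.2.1 q.2.1, p.2.2 + q.2.2 + qS p.1 q.1 + qS p.2.1 q.2.1)

/-- The action of the powers of the element of order three. -/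
def actX (a : Fin 3) (q : Q5) : Q5 := (cycA a q.1, cycA a q.2.1, q.2.2)

/-- The action of the inverting element. -/
def actT (sw : Bool) (q : Q5) : Q5 :=
  (th (if sw then q.2.1 else q.1), th (if sw then q.1 else q.2.1), q.2.2 + nzU q.1 + nzU q.2.1)

/-- The index of a normal form. -/
def mk (q : Q5) (a : Fin 3) (b : Fin 2) : Fin 192 :=
  ⟨48 * q.1.1 + 12 * q.2.1.1 + 6 * q.2.2.1 + 2 * a.1 + b.1, by omega⟩

/-- The core part of an index. -/
def nQ (i : Fin 192) : Q5 :=
  (⟨i.1 / 48, by omega⟩, ⟨i.1 / 12 % 4, by omega⟩, ⟨i.1 / 6 % 2, by omega⟩)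

/-- The exponent of the element of order three. -/
def nA (i : Fin 192) : Fin 3 := ⟨i.1 % 6 / 2, by omega⟩

/-- The exponent of the inverting element. -/
def nB (i : Fin 192) : Fin 2 := ⟨i.1 % 2, by omega⟩

/-- The product of two normal forms. -/
def nfMul (sw d : Bool) (i j : Fin 192) : Fin 192 :=
  let r := qMul (nQ i) (actX (nA i) (if nB i = 0 then nQ j else actT sw (nQ j)))
  mk (r.1, r.2.1, r.2.2 + (if d then nB i * nB j else 0)) (nA i + if nB i = 0 then nA j else -nA j) (nB i + nB j)

/-- The central involution. -/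
def nZ : Fin 192 := 6

/-- Whether an index lies in the core. -/
def inQ (i : Fin 192) : Bool := i.1 % 6 == 0

/-- Pairs of inverse elements generating the group. -/
def nGens (d : Bool) : List (Fin 192 × Fin 192) :=
  [(48, 54), (96, 102), (12, 18), (24, 30), (2, 4), (1, if d then 7 else 1)]

/-- An element whose triviality implies a given property of a commutator with it. -/
def kStep (sw d : Bool) (P : Fin 192 → Bool) (i : Fin 192) : Bool :=
  P i || P (nfMul sw d i i) ||
    (nGens d).any fun h => P (nfMul sw d (nfMul sw d (nfMul sw d h.1 i) h.2) i)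

/-- The order of the centraliser of an index. -/
def cntC (sw d : Bool) (i : Fin 192) : ℕ :=
  ((List.finRange 192).filter fun k => nfMul sw d i k == nfMul sw d k i).length

/-- The number of elements commuting with an index and squaring to a given one. -/
def cntS (sw d : Bool) (i r : Fin 192) : ℕ :=
  ((List.finRange 192).filter fun k => nfMul sw d i k == nfMul sw d k i && nfMul sw d k k == r).length

theorem mk_eq : ∀ i : Fin 192, mk (nQ i) (nA i) (nB i) = i := by decide +kernel

theorem parts_mk : ∀ (q : Q5) (a : Fin 3) (b : Fin 2), nQ (mk q a b) = q ∧ nA (mk q a b) = a ∧ nB (mk q a b) = b := by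
  decide +kernel

theorem gens_inv : ∀ sw d : Bool, ∀ h ∈ nGens d, nfMul sw d h.1 h.2 = 0 := by decide +kernel

theorem reach : ∀ sw d : Bool, ∀ i : Fin 192, i ≠ 0 →
    kStep sw d (kStep sw d (kStep sw d fun c => c == nZ)) i = true := by
  decide +kernel

end Cfsg.Lib.AltEightNine.Ident
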